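import Cfsg.Agent.SuzukiModule.Exponent

/-!
# Two-groups extended by a Suzuki group

If the nontrivial elements of odd order centralise no nontrivial element of the two-group, it is
elementary abelian.
-/

set_option autoImplicit false
set_option linter.style.haveILetI false
set_option linter.unusedSectionVars false

namespace CfsgLib.SuzukiModule

open CfsgLib.Suzuki
open scoped commutatorElement IsMulCommutative

universe u w

variable {F : Type w} [Field F] [Fintype F] {m : ℕ}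

/-- The nontrivial elements of odd order centralise only the identity in `R`. -/
def OddFree {G : Type*} [Group G] (R : Subgroup G) : Prop :=
  ∀ x : G, Odd (orderOf x) → x ≠ 1 → ∀ r ∈ R, Commute x r → r = 1

section group

variable {G : Type u} [Group G] [Finite G]

theorem exists_odd_lift {H : Type*} [Group H] (π : G →* H) (hπ : Function.Surjective π) {g : H}
    (ho : Odd (orderOf g)) : ∃ x : G, π x = g ∧ Odd (orderOf x) := by
  obtain ⟨x, rfl⟩ := hπ g
  obtain ⟨k, o, ho', hk⟩ := Nat.exists_eq_two_pow_mul_odd (orderOf_pos x).ne'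
  obtain ⟨j, hj⟩ := exists_pow_eq_self_of_coprime
    (x := π x) (n := 2 ^ k) ((Nat.coprime_two_left.2 ho).pow_left k)
  refine ⟨(x ^ 2 ^ k) ^ j, by rw [map_pow, map_pow, hj], Odd.of_dvd_nat ho' ?_⟩
  refine dvd_trans (orderOf_pow_dvd j) (orderOf_dvd_of_pow_eq_one ?_)
  rw [← pow_mul, ← hk, pow_orderOf_eq_one]

/-- Freeness descends to the quotient by an abelian normal subgroup. -/
theorem OddFree.quotient {R : Subgroup G} (h : OddFree R) (B : Subgroup G) [B.Normal] (hBR : B ≤ R)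
    (hB : ∀ a ∈ B, ∀ b ∈ B, Commute a b) : OddFree (R.map (QuotientGroup.mk' B)) := by
  intro g ho h1 r hr hc
  obtain ⟨x, rfl, hx⟩ := exists_odd_lift _ (QuotientGroup.mk'_surjective B) ho
  obtain ⟨r, hr', rfl⟩ := hr
  have hx1 : x ≠ 1 := fun e => h1 (by rw [e, map_one])
  let T : B → B := fun b => ⟨b * (x * (b : G)⁻¹ * x⁻¹),
    B.mul_mem b.2 (‹B.Normal›.conj_mem _ (B.inv_mem b.2) x)⟩
  have hT : Function.Injective T := by
    intro a b e
    have e' : (a : G) * (x * (a : G)⁻¹ * x⁻¹) = b * (x * (b : G)⁻¹ * x⁻¹) := congrArg Subtype.val e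
    have hab : ((b : G)⁻¹ * a) = 1 := by
      refine h x hx hx1 _ (hBR (B.mul_mem (B.inv_mem b.2) a.2)) ?_
      have e3 : (b : G)⁻¹ * a = (x * (b : G)⁻¹ * x⁻¹) * (x * (a : G)⁻¹ * x⁻¹)⁻¹ := by
        rw [eq_mul_inv_iff_mul_eq, mul_assoc, e', inv_mul_cancel_left]
      have : x * ((b : G)⁻¹ * a) * x⁻¹ = (x * (b : G)⁻¹ * x⁻¹) * (x * (a : G)⁻¹ * x⁻¹)⁻¹ := by group
      rw [← e3] at this
      exact mul_inv_eq_iff_eq_mul.1 this
    exact Subtype.ext (inv_mul_eq_one.1 hab).symm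
  have hm : r⁻¹ * (x * r * x⁻¹) ∈ B := by
    rw [← QuotientGroup.eq]
    have := mul_inv_eq_iff_eq_mul.2 hc.eq
    simpa using this.symm
  obtain ⟨b, hb⟩ := (Finite.injective_iff_surjective.1 hT) ⟨_, hm⟩
  have hb' : (b : G) * (x * (b : G)⁻¹ * x⁻¹) = r⁻¹ * (x * r * x⁻¹) := congrArg Subtype.val hb
  have hrb : r * b = 1 := by
    refine h x hx hx1 _ (R.mul_mem hr' (hBR b.2)) ?_
    show x * (r * b) = r * b * x
    rw [← mul_inv_eq_iff_eq_mul]
    calc x * (r * b) * x⁻¹ = r * (r⁻¹ * (x * r * x⁻¹)) * (x * b * x⁻¹) := by group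
      _ = r * b := by rw [← hb']; group
  rw [QuotientGroup.mk'_apply, QuotientGroup.eq_one_iff, eq_inv_of_mul_eq_one_left hrb]
  exact B.inv_mem b.2

variable {H : Type w} [Group H] (π : G →* H)

/-- The action on an abelian normal subgroup centralised by the kernel. -/
theorem exists_rep (hπ : Function.Surjective π) (hfree : OddFree π.ker) {A : Subgroup G} [A.Normal]
    (hA : A ≤ π.ker) (hc : ∀ a ∈ A, ∀ r ∈ π.ker, Commute a r) (n : ℕ) [IsMulCommutative A]
    [Module (ZMod n) (Additive A)] :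
    ∃ ρ : Representation (ZMod n) H (Additive A), OddFix ρ ∧
      ∀ (g : G) (a : A), ((Additive.toMul (ρ (π g) (Additive.ofMul a)) : A) : G) = g * a * g⁻¹ := by
  let f : G →* MulAut A := MulAut.conjNormal
  have hker : π.ker ≤ f.ker := fun r hr => MulEquiv.ext fun a => Subtype.ext (by
    show r * (a : G) * r⁻¹ = a
    rw [mul_inv_eq_iff_eq_mul]; exact (hc a a.2 r hr).eq.symm)
  let φ : H →* MulAut A := π.liftOfSurjective hπ ⟨f, hker⟩
  have hφ : ∀ g, φ (π g) = f g := fun g => π.liftOfRightInverse_comp_apply _ _ ⟨f, hker⟩ g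
  let ρ : Representation (ZMod n) H (Additive A) :=
    { toFun := fun h => AddMonoidHom.toZModLinearMap n (MonoidHom.toAdditive (φ h).toMonoidHom)
      map_one' := by rw [map_one]; rfl
      map_mul' := fun g h => by rw [map_mul]; rfl }
  have hρ : ∀ (g : G) (a : A), ((Additive.toMul (ρ (π g) (Additive.ofMul a)) : A) : G) = g * a * g⁻¹ := by
    intro g a
    show ((φ (π g)) a : G) = _
    rw [hφ]
    rfl
  refine ⟨ρ, fun h v ho h1 hv => ?_, hρ⟩
  obtain ⟨x, rfl, hx⟩ := exists_odd_lift π hπ ho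
  have hx1 : x ≠ 1 := fun e => h1 (by rw [e, map_one])
  have := hρ x (Additive.toMul v)
  rw [ofMul_toMul, hv] at this
  have h1' := hfree x hx hx1 _ (hA (Additive.toMul v).2) (mul_inv_eq_iff_eq_mul.1 this.symm)
  exact Additive.toMul.injective (Subtype.ext h1')

end group

section main

variable {G : Type u} [Group G] [Finite G]

theorem exists_central_normal {R : Subgroup G} [R.Normal] (hR : IsPGroup 2 R) (hR0 : R ≠ ⊥) :
    ∃ B : Subgroup G, B.Normal ∧ B ≠ ⊥ ∧ B ≤ R ∧ (∀ b ∈ B, ∀ r ∈ R, Commute b r) ∧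
      ∀ b ∈ B, b * b = 1 := by
  haveI : Fact (Nat.Prime 2) := ⟨Nat.prime_two⟩
  haveI : Nontrivial R := (Subgroup.nontrivial_iff_ne_bot R).2 hR0
  let B : Subgroup G :=
    { carrier := {z | z ∈ R ∧ (∀ r ∈ R, Commute z r) ∧ z * z = 1}
      one_mem' := ⟨R.one_mem, fun r _ => Commute.one_left r, one_mul 1⟩
      mul_mem' := by
        rintro a b ⟨ha, ha', ha2⟩ ⟨hb, hb', hb2⟩
        refine ⟨R.mul_mem ha hb, fun r hr => (ha' r hr).mul_left (hb' r hr), ?_⟩
        rw [mul_assoc, ← mul_assoc b, ← (ha' b hb).eq, mul_assoc, hb2, mul_one, ha2]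
      inv_mem' := by
        rintro a ⟨ha, ha', ha2⟩
        rw [inv_eq_of_mul_eq_one_right ha2]
        exact ⟨ha, ha', ha2⟩ }
  refine ⟨B, ⟨?_⟩, ?_, fun b hb => hb.1, fun b hb => hb.2.1, fun b hb => hb.2.2⟩
  · rintro z ⟨hz, hz', hz2⟩ g
    refine ⟨‹R.Normal›.conj_mem z hz g, fun r hr => ?_, ?_⟩
    · have := hz' _ (‹R.Normal›.conj_mem r hr g⁻¹)
      have := this.map (MulAut.conj g).toMonoidHom
      simpa [mul_assoc] using this
    · simp [mul_assoc, hz2, ← mul_assoc z z]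
  · haveI := hR.center_nontrivial
    haveI : Fintype (Subgroup.center R) := Fintype.ofFinite _
    have hd : 2 ∣ Nat.card (Subgroup.center R) := by
      obtain ⟨k, hk0, hk⟩ := (hR.to_subgroup (Subgroup.center R)).nontrivial_iff_card.1 inferInstance
      exact hk ▸ dvd_pow_self 2 (by omega)
    obtain ⟨z, hz⟩ := exists_prime_orderOf_dvd_card' 2 hd
    intro hb
    have hmem : ((z : R) : G) ∈ B := by
      refine ⟨(z : R).2, fun r hr => ?_, ?_⟩
      · exact congrArg Subtype.val (Subgroup.mem_center_iff.1 z.2 ⟨r, hr⟩).symm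
      · have := pow_orderOf_eq_one z
        rw [hz, pow_two] at this
        exact congrArg (fun y : Subgroup.center R => ((y : R) : G)) this
    rw [hb, Subgroup.mem_bot] at hmem
    have : z = 1 := Subtype.ext (Subtype.ext hmem)
    simp [this] at hz

/-- A commutator pairing with values in a central subgroup is trivial. -/
theorem commute_of_quotient (hS : SzField F m) (π : G →* Cfsg.Sz F m) (hπ : Function.Surjective π)
    (hfree : OddFree π.ker) (B : Subgroup G) [B.Normal] (hBR : B ≤ π.ker)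
    (hBc : ∀ b ∈ B, ∀ r ∈ π.ker, Commute b r) (hB2 : ∀ b ∈ B, b * b = 1)
    (hcomm : ∀ x ∈ π.ker, ∀ y ∈ π.ker, ⁅x, y⁆ ∈ B) (hsq : ∀ x ∈ π.ker, x * x ∈ B) :
    ∀ x ∈ π.ker, ∀ y ∈ π.ker, Commute x y := by
  let πb : G ⧸ B →* Cfsg.Sz F m := QuotientGroup.lift B π hBR
  have hπb : Function.Surjective πb := fun h => by
    obtain ⟨g, rfl⟩ := hπ h
    exact ⟨g, rfl⟩
  have hkerb : πb.ker = π.ker.map (QuotientGroup.mk' B) := QuotientGroup.ker_lift B π hBR
  have hfreeb : OddFree πb.ker :=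
    hkerb ▸ hfree.quotient B hBR (fun a ha b hb => hBc a ha b (hBR hb))
  have hmem : ∀ a : πb.ker, ∃ x ∈ π.ker, (QuotientGroup.mk x : G ⧸ B) = a := fun a => by
    obtain ⟨x, hx⟩ := QuotientGroup.mk_surjective (a : G ⧸ B)
    refine ⟨x, ?_, hx⟩
    have := a.2
    rwa [← hx] at this
  choose s hs hs' using hmem
  have hcA : ∀ a ∈ πb.ker, ∀ r ∈ πb.ker, Commute a r := by
    intro a ha r hr
    obtain ⟨x, rfl⟩ := QuotientGroup.mk_surjective a
    obtain ⟨y, rfl⟩ := QuotientGroup.mk_surjective r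
    refine commutatorElement_eq_one_iff_commute.1 ?_
    show QuotientGroup.mk' B x * QuotientGroup.mk' B y * (QuotientGroup.mk' B x)⁻¹ *
      (QuotientGroup.mk' B y)⁻¹ = 1
    rw [← map_inv, ← map_inv, ← map_mul, ← map_mul, ← map_mul]
    exact (QuotientGroup.eq_one_iff _).2 (hcomm x ha y hr)
  have hnA : ∀ a ∈ πb.ker, a ^ 2 = 1 := by
    intro a ha
    obtain ⟨x, rfl⟩ := QuotientGroup.mk_surjective a
    rw [pow_two]
    exact (QuotientGroup.eq_one_iff (x * x)).2 (hsq x ha)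
  have hnB : ∀ b ∈ B, b ^ 2 = 1 := fun b hb => by rw [pow_two]; exact hB2 b hb
  haveI : IsMulCommutative πb.ker := ⟨⟨fun a b => Subtype.ext (hcA a a.2 b b.2).eq⟩⟩
  haveI : IsMulCommutative B := ⟨⟨fun a b => Subtype.ext (hBc a a.2 b (hBR b.2)).eq⟩⟩
  letI : Module (ZMod 2) (Additive πb.ker) := AddCommGroup.zmodModule fun a =>
    Subtype.ext (hnA _ (Additive.toMul a).2)
  letI : Module (ZMod 2) (Additive B) := AddCommGroup.zmodModule fun a =>
    Subtype.ext (hnB _ (Additive.toMul a).2)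
  obtain ⟨ρA, hA, hρA⟩ := exists_rep πb hπb hfreeb (A := πb.ker) le_rfl hcA 2
  obtain ⟨ρB, hB, hρB⟩ := exists_rep π hπ hfree (A := B) hBR hBc 2
  let c : πb.ker → πb.ker → B := fun a b => ⟨⁅s a, s b⁆, hcomm _ (hs a) _ (hs b)⟩
  -- independence of the lifts
  have hmul_left : ∀ x x' y, x ∈ π.ker → x' ∈ π.ker → y ∈ π.ker →
      ⁅x * x', y⁆ = ⁅x, y⁆ * ⁅x', y⁆ := by
    intro x x' y hx hx' hy
    have h := (hBc _ (hcomm x' hx' y hy) x hx).eq
    calc ⁅x * x', y⁆ = x * ⁅x', y⁆ * x⁻¹ * ⁅x, y⁆ := by simp only [commutatorElement_def]; group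
      _ = ⁅x', y⁆ * ⁅x, y⁆ := by rw [← h, mul_inv_cancel_right]
      _ = ⁅x, y⁆ * ⁅x', y⁆ := (hBc _ (hcomm x' hx' y hy) _ (hBR (hcomm x hx y hy))).eq
  have hB1 : ∀ b ∈ B, ∀ y ∈ π.ker, ⁅b, y⁆ = 1 := fun b hb y hy =>
    commutatorElement_eq_one_iff_commute.2 (hBc b hb y hy)
  have hindl : ∀ x x' y, x ∈ π.ker → x' ∈ π.ker → y ∈ π.ker →
      (QuotientGroup.mk x : G ⧸ B) = QuotientGroup.mk x' → ⁅x, y⁆ = ⁅x', y⁆ := by
    intro x x' y hx hx' hy e
    have hb := QuotientGroup.eq.1 e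
    rw [show x' = x * (x⁻¹ * x') by group, hmul_left x _ y hx (hBR hb) hy, hB1 _ hb y hy, mul_one]
  have hswap : ∀ x y, x ∈ π.ker → y ∈ π.ker → ⁅x, y⁆ = ⁅y, x⁆ := fun x y hx hy => by
    rw [← commutatorElement_inv y x]
    exact inv_eq_of_mul_eq_one_right (hB2 _ (hcomm y hy x hx))
  have hadd_left : ∀ a a' b, c (a * a') b = c a b * c a' b := by
    intro a a' b
    refine Subtype.ext ?_
    show ⁅s (a * a'), s b⁆ = ⁅s a, s b⁆ * ⁅s a', s b⁆
    rw [hindl (s (a * a')) (s a * s a') (s b) (hs _) (π.ker.mul_mem (hs a) (hs a')) (hs b)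
      (by rw [QuotientGroup.mk_mul, hs', hs', hs', Subgroup.coe_mul]),
      hmul_left _ _ _ (hs a) (hs a') (hs b)]
  have hsymm : ∀ a b, c a b = c b a := fun a b => Subtype.ext (hswap _ _ (hs a) (hs b))
  let β : Additive πb.ker →ₗ[ZMod 2] Additive πb.ker →ₗ[ZMod 2] Additive B :=
    AddMonoidHom.toZModLinearMap 2 (AddMonoidHom.mk'
      (fun a => AddMonoidHom.toZModLinearMap 2 (AddMonoidHom.mk'
        (fun b => Additive.ofMul (c (Additive.toMul a) (Additive.toMul b)))
        (fun b b' => congrArg Additive.ofMul (by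
          rw [toMul_add, hsymm, hadd_left, hsymm, hsymm (Additive.toMul b')]; rfl))))
      (fun a a' => LinearMap.ext fun b => congrArg Additive.ofMul (by
        show c (Additive.toMul (a + a')) (Additive.toMul b) = _
        rw [toMul_add, hadd_left]; rfl)))
  have hβ : ∀ g a b, β (ρA g a) (ρA g b) = ρB g (β a b) := by
    intro h a b
    obtain ⟨g, rfl⟩ := hπ h
    refine Additive.toMul.injective (Subtype.ext ?_)
    refine Eq.trans ?_ (hρB g (c (Additive.toMul a) (Additive.toMul b))).symm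
    show ⁅s (Additive.toMul (ρA (π g) a)), s (Additive.toMul (ρA (π g) b))⁆ =
      g * ⁅s (Additive.toMul a), s (Additive.toMul b)⁆ * g⁻¹
    have hlift : ∀ z : Additive πb.ker, (QuotientGroup.mk (s (Additive.toMul (ρA (π g) z))) : G ⧸ B) =
        QuotientGroup.mk (g * s (Additive.toMul z) * g⁻¹) := fun z => by
      rw [hs', QuotientGroup.mk_mul, QuotientGroup.mk_mul, QuotientGroup.mk_inv, hs']
      exact hρA (QuotientGroup.mk g) (Additive.toMul z)
    have hgmem : ∀ z, g * s z * g⁻¹ ∈ π.ker := fun z =>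
      (MonoidHom.normal_ker π).conj_mem _ (hs z) g
    rw [hindl _ _ _ (hs _) (hgmem _) (hs _) (hlift a), hswap _ _ (hgmem _) (hs _),
      hindl _ _ _ (hs _) (hgmem _) (hgmem _) (hlift b), hswap _ _ (hgmem _) (hgmem _)]
    simp only [commutatorElement_def]
    group
  have h0 := eq_zero_of_bilinear_two hS hA hA hB β hβ
  intro x hx y hy
  have hx' : (QuotientGroup.mk x : G ⧸ B) ∈ πb.ker := hx
  have hy' : (QuotientGroup.mk y : G ⧸ B) ∈ πb.ker := hy
  have := congrArg Subtype.val (congrArg Additive.toMul (DFunLike.congr_fun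
    (DFunLike.congr_fun h0 (Additive.ofMul ⟨_, hx'⟩)) (Additive.ofMul ⟨_, hy'⟩)))
  refine commutatorElement_eq_one_iff_commute.1 ?_
  rw [← hindl _ x y (hs ⟨_, hx'⟩) hx hy (hs' ⟨_, hx'⟩), hswap _ _ (hs _) hy,
    ← hindl _ y _ (hs ⟨_, hy'⟩) hy (hs _) (hs' ⟨_, hy'⟩), hswap _ _ (hs _) (hs _)]
  exact this

end main

/-- A two-group extended by a Suzuki group with odd elements free on it is elementary abelian. -/
theorem elementary_of_oddFree (hS : SzField F m) :
    ∀ (n : ℕ) (G : Type u) [Group G] [Finite G], Nat.card G = n →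
      ∀ π : G →* Cfsg.Sz F m, Function.Surjective π → IsPGroup 2 π.ker → OddFree π.ker →
        (∀ x ∈ π.ker, ∀ y ∈ π.ker, Commute x y) ∧ ∀ x ∈ π.ker, x * x = 1 := by
  intro n
  induction n using Nat.strong_induction_on with
  | _ n ih =>
    intro G _ _ hn π hπ hp hfree
    by_cases hR0 : π.ker = ⊥
    · refine ⟨fun x hx y _ => ?_, fun x hx => ?_⟩ <;> rw [hR0, Subgroup.mem_bot] at hx <;> subst hx
      · exact Commute.one_left y
      · exact one_mul 1
    obtain ⟨B, hBn, hB0, hBR, hBc, hB2⟩ := exists_central_normal hp hR0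
    let πb : G ⧸ B →* Cfsg.Sz F m := QuotientGroup.lift B π hBR
    have hπb : Function.Surjective πb := fun h => by
      obtain ⟨g, rfl⟩ := hπ h
      exact ⟨g, rfl⟩
    have hkerb : πb.ker = π.ker.map (QuotientGroup.mk' B) := QuotientGroup.ker_lift B π hBR
    have hlt : Nat.card (G ⧸ B) < n := by
      haveI : Nontrivial B := (Subgroup.nontrivial_iff_ne_bot B).2 hB0
      rw [← hn, Subgroup.card_eq_card_quotient_mul_card_subgroup B]
      exact lt_mul_of_one_lt_right Nat.card_pos Finite.one_lt_card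
    obtain ⟨hab, hsq⟩ := ih _ hlt (G ⧸ B) rfl πb hπb (hkerb ▸ hp.map _)
      (hkerb ▸ hfree.quotient B hBR (fun a ha b hb => hBc a ha b (hBR hb)))
    have hcomm : ∀ x ∈ π.ker, ∀ y ∈ π.ker, ⁅x, y⁆ ∈ B := by
      intro x hx y hy
      rw [← QuotientGroup.eq_one_iff, ← QuotientGroup.mk'_apply B, map_commutatorElement,
        commutatorElement_eq_one_iff_commute]
      exact hab _ hx _ hy
    have hsq' : ∀ x ∈ π.ker, x * x ∈ B := fun x hx =>
      (QuotientGroup.eq_one_iff (x * x)).1 (hsq (QuotientGroup.mk x) hx)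
    have hc := commute_of_quotient hS π hπ hfree B hBR hBc hB2 hcomm hsq'
    refine ⟨hc, fun x hx => ?_⟩
    have h4 : ∀ a ∈ π.ker, a ^ 4 = 1 := fun a ha => by
      rw [show a ^ 4 = (a * a) * (a * a) by simp [pow_succ, mul_assoc]]; exact hB2 _ (hsq' a ha)
    haveI : IsMulCommutative π.ker := ⟨⟨fun a b => Subtype.ext (hc a a.2 b b.2).eq⟩⟩
    letI : Module (ZMod 4) (Additive π.ker) := AddCommGroup.zmodModule fun a =>
      Subtype.ext (h4 _ (Additive.toMul a).2)
    obtain ⟨ρ, hρ, -⟩ := exists_rep π hπ hfree (A := π.ker) le_rfl hc 4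
    have h := two_smul_eq_zero_of_oddFix hS hρ (Additive.ofMul ⟨x, hx⟩)
    rw [show (2 : ZMod 4) = ((2 : ℕ) : ZMod 4) from rfl, Nat.cast_smul_eq_nsmul, two_nsmul] at h
    exact congrArg Subtype.val (congrArg Additive.toMul h)

end CfsgLib.SuzukiModule
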