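import Cfsg.Agent.SuzukiModule.Irreducible

/-!
# Equivariant bilinear maps between modules with odd elements fixed point free

For the Suzuki groups all of them vanish.
-/

set_option autoImplicit false
set_option linter.style.haveILetI false
set_option linter.unusedSectionVars false

namespace CfsgLib.SuzukiModule

open CfsgLib.Suzuki

universe u v w

section general

variable {R : Type*} [CommRing R] {G : Type*} [Group G] {V : Type*} [AddCommGroup V] [Module R V]

theorem OddFix.sum_pow_eq_zero {ρ : Representation R G V} (h : OddFix ρ) {g : G}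
    (ho : Odd (orderOf g)) (h1 : g ≠ 1) (v : V) :
    ∑ i ∈ Finset.range (orderOf g), ρ (g ^ i) v = 0 := by
  have hn : orderOf g ≠ 0 := fun e => by simp [e] at ho
  obtain ⟨k, hk⟩ := Nat.exists_eq_succ_of_ne_zero hn
  refine h g _ ho h1 ?_
  rw [map_sum, hk, Finset.sum_range_succ, Finset.sum_range_succ' _ k]
  have hmul : ∀ i, ρ g (ρ (g ^ i) v) = ρ (g ^ (i + 1)) v := fun i => by
    rw [pow_succ', map_mul]; rfl
  simp only [hmul]
  rw [show k + 1 = orderOf g from hk.symm, pow_orderOf_eq_one, pow_zero]

theorem oddFix_of_sum_pow (h2 : ∀ v : V, v + v = 0) {ρ : Representation R G V}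
    (h : ∀ g : G, Odd (orderOf g) → g ≠ 1 → ∀ v, ∑ i ∈ Finset.range (orderOf g), ρ (g ^ i) v = 0) :
    OddFix ρ := by
  intro g v ho h1 hv
  have hs := h g ho h1 v
  have hp : ∀ i, ρ (g ^ i) v = v := by
    intro i
    induction i with
    | zero => simp
    | succ i ih => rw [pow_succ, map_mul, Module.End.mul_apply, hv, ih]
  simp only [hp, Finset.sum_const, Finset.card_range] at hs
  obtain ⟨k, hk⟩ := ho
  rwa [hk, add_nsmul, mul_nsmul, two_nsmul, h2, one_nsmul, nsmul_zero, zero_add] at hs

variable (ρ : Representation R G V) (X : Submodule R V) (hX : ∀ g, ∀ v ∈ X, ρ g v ∈ X)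

/-- The representation on an invariant submodule. -/
def subRep : Representation R G X where
  toFun g := (ρ g).restrict (hX g)
  map_one' := by ext v; simp
  map_mul' g h := by ext v; simp

theorem subRep_apply (g : G) (v : X) : (subRep ρ X hX g v : V) = ρ g v := rfl

/-- The representation on the quotient by an invariant submodule. -/
def quotRep : Representation R G (V ⧸ X) where
  toFun g := X.mapQ X (ρ g) (hX g)
  map_one' := by
    refine Submodule.linearMap_qext _ (LinearMap.ext fun v => ?_)
    simp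
  map_mul' g h := by
    refine Submodule.linearMap_qext _ (LinearMap.ext fun v => ?_)
    simp

theorem quotRep_mk (g : G) (v : V) :
    quotRep ρ X hX g (Submodule.Quotient.mk v) = Submodule.Quotient.mk (ρ g v) := rfl

theorem OddFix.subRep {ρ : Representation R G V} (h : OddFix ρ) (X : Submodule R V)
    (hX : ∀ g, ∀ v ∈ X, ρ g v ∈ X) : OddFix (SuzukiModule.subRep ρ X hX) :=
  fun g v ho h1 hv => Subtype.ext (h g v ho h1 (congrArg Subtype.val hv))

theorem OddFix.quotRep {ρ : Representation R G V} (h : OddFix ρ) (h2 : ∀ v : V, v + v = 0)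
    (X : Submodule R V) (hX : ∀ g, ∀ v ∈ X, ρ g v ∈ X) :
    OddFix (SuzukiModule.quotRep ρ X hX) := by
  refine oddFix_of_sum_pow ?_ fun g ho h1 v => ?_
  · intro v
    induction v using Submodule.Quotient.induction_on with
    | _ v => rw [← Submodule.Quotient.mk_add, h2, Submodule.Quotient.mk_zero]
  · induction v using Submodule.Quotient.induction_on with
    | _ v =>
      simp only [quotRep_mk]
      simp only [← Submodule.mkQ_apply, ← map_sum, h.sum_pow_eq_zero ho h1, map_zero]

end general

variable {F : Type w} [Field F] [Fintype F] {m : ℕ}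

local notation "W" F:max => (Fin 1 → Fin 4) → F

theorem nat_tor_tVec (hS : SzField F m) (i : Fin (2 * m + 1)) (μ : Fˣ) :
    nat hS i (torSz hS μ) (tVec F (Fin 1)) =
      ((μ : F) ^ (2 ^ m + 1)) ^ (2 ^ (i : ℕ)) • tVec F (Fin 1) := by
  rw [nat, tens_tor_tVec]; simp

theorem nat_tor_dVec (hS : SzField F m) (i : Fin (2 * m + 1)) (μ : Fˣ) :
    nat hS i (torSz hS μ) (dVec F (Fin 1)) =
      (((μ : F) ^ (2 ^ m + 1))⁻¹) ^ (2 ^ (i : ℕ)) • dVec F (Fin 1) := by
  rw [nat, dVec, tens_single_eq hS _ _ 3 3 ((μ : F) ^ (2 ^ m + 1))⁻¹ fun k => by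
    fin_cases k <;> simp [torSz_val, tor_val, torMat]]
  simp

/-- Two twists of the natural module, the same twist. -/
theorem eq_zero_of_nat_nat {B : Type*} [AddCommGroup B] [Module F B] (hS : SzField F m)
    (i : Fin (2 * m + 1)) {ρB : Representation F (Cfsg.Sz F m) B} (hB : OddFix ρB)
    (β : W F →ₗ[F] W F →ₗ[F] B)
    (hβ : ∀ g a b, β (nat hS i g a) (nat hS i g b) = ρB g (β a b)) : β = 0 := by
  classical
  have he : Function.Injective (fun _ : Fin 1 => i) := Function.injective_of_subsingleton _
  obtain ⟨μ, hμ⟩ : ∃ μ : Fˣ, μ ≠ 1 := by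
    obtain ⟨x, hx0, hx⟩ := exists_θ_ne hS
    exact ⟨Units.mk0 x hx0, fun e => hx (by rw [show x = 1 from congrArg Units.val e, θ_one])⟩
  have htd : β (tVec F _) (dVec F _) = 0 := by
    refine hB _ _ (odd_orderOf_torSz hS μ)
      (fun e => hμ (torSz_injective hS (e.trans (map_one _).symm))) ?_
    rw [← hβ, nat_tor_tVec, nat_tor_dVec]
    simp only [map_smul, LinearMap.smul_apply, smul_smul, ← mul_pow]
    simp
  have ht : β (tVec F _) = 0 := by
    refine LinearMap.ext fun w => ?_
    have hw : w ∈ Submodule.span F (Set.range fun p : F × F =>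
        nat hS i (uniEl hS p.1 p.2) (dVec F _)) :=
      span_uni_dVec hS he ▸ Submodule.mem_top
    induction hw using Submodule.span_induction with
    | mem z hz =>
      obtain ⟨p, rfl⟩ := hz
      show β (tVec F _) (nat hS i (uniEl hS p.1 p.2) (dVec F _)) = 0
      conv_lhs => rw [← tens_uni_tVec hS (fun _ : Fin 1 => i) p.1 p.2]
      rw [← nat, hβ, htd, map_zero]
    | zero => simp
    | add a b _ _ ha hb =>
      rw [LinearMap.zero_apply] at ha hb ⊢
      rw [map_add, ha, hb, add_zero]
    | smul r a _ ha =>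
      rw [LinearMap.zero_apply] at ha ⊢
      rw [map_smul, ha, smul_zero]
  have hker : LinearMap.ker β = ⊤ := by
    refine eq_top_of_invariant hS he ?_ ?_
    · intro g v hv
      rw [LinearMap.mem_ker] at hv ⊢
      refine LinearMap.ext fun w => ?_
      have hw : nat hS i g (nat hS i g⁻¹ w) = w := by
        rw [← Module.End.mul_apply, ← map_mul, mul_inv_cancel, map_one]; rfl
      rw [← hw]
      show β (nat hS i g v) _ = 0
      rw [hβ, hv]
      simp
    · intro h
      have : (tVec F (Fin 1)) = 0 := (Submodule.mem_bot F).1 (h ▸ LinearMap.mem_ker.2 ht)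
      simpa [tVec] using congrFun this fun _ => 0
  exact LinearMap.ext fun v => LinearMap.mem_ker.1 (hker ▸ Submodule.mem_top : v ∈ LinearMap.ker β)

/-- Two different twists of the natural module, and a small target. -/
theorem eq_zero_of_nat_nat' {B : Type*} [AddCommGroup B] [Module F B] [Module.Finite F B]
    (hS : SzField F m) {i j : Fin (2 * m + 1)} (hij : i ≠ j)
    {ρB : Representation F (Cfsg.Sz F m) B} (hdim : Module.finrank F B ≤ 4)
    (β : W F →ₗ[F] W F →ₗ[F] B)
    (hβ : ∀ g a b, β (nat hS i g a) (nat hS j g b) = ρB g (β a b)) : β = 0 := by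
  classical
  let e : Fin 2 → Fin (2 * m + 1) := ![i, j]
  have he : Function.Injective e := fun a b h => by
    fin_cases a <;> fin_cases b <;> simp_all [e]
  let Φ : ((Fin 2 → Fin 4) → F) →ₗ[F] B := Fintype.linearCombination F fun f =>
    β (Pi.single (fun _ => f 0) 1) (Pi.single (fun _ => f 1) 1)
  let pr : W F → W F → (Fin 2 → Fin 4) → F := fun a b f => a (fun _ => f 0) * b (fun _ => f 1)
  let E : (Fin 1 → Fin 4) × (Fin 1 → Fin 4) ≃ (Fin 2 → Fin 4) :=
    { toFun := fun xy => ![xy.1 0, xy.2 0]
      invFun := fun f => (fun _ => f 0, fun _ => f 1)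
      left_inv := fun xy => Prod.ext (funext fun x => by simp [Subsingleton.elim x (0 : Fin 1)])
        (funext fun x => by simp [Subsingleton.elim x (0 : Fin 1)])
      right_inv := fun f => funext fun x => by fin_cases x <;> simp }
  have hΦ : ∀ a b, Φ (pr a b) = β a b := by
    intro a b
    conv_rhs => rw [pi_eq_sum_univ' a, pi_eq_sum_univ' b]
    simp only [Φ, Fintype.linearCombination_apply]
    rw [← Equiv.sum_comp E, Fintype.sum_prod_type]
    simp only [E, Equiv.coe_fn_mk, map_sum, map_smul, LinearMap.sum_apply,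
      LinearMap.smul_apply, Finset.smul_sum, smul_smul]
    rw [Finset.sum_comm]
    refine Finset.sum_congr rfl fun x _ => ?_
    refine Finset.sum_congr rfl fun y _ => ?_
    have hc : ∀ z : Fin 1 → Fin 4, (fun _ : Fin 1 => z 0) = z := fun z =>
      funext fun k => by rw [Subsingleton.elim k (0 : Fin 1)]
    simp [pr, hc, mul_comm]
  have hpr : ∀ g a b, tens hS e g (pr a b) = pr (nat hS i g a) (nat hS j g b) := by
    intro g a b
    funext f
    simp only [pr, nat, tens_apply]
    rw [← Equiv.sum_comp E, Fintype.sum_prod_type, Finset.sum_mul]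
    simp only [E, Equiv.coe_fn_mk, Finset.mul_sum]
    refine Finset.sum_congr rfl fun x _ => Finset.sum_congr rfl fun y _ => ?_
    have hc : ∀ z : Fin 1 → Fin 4, (fun _ : Fin 1 => z 0) = z := fun z =>
      funext fun k => by rw [Subsingleton.elim k (0 : Fin 1)]
    simp [e, Fin.prod_univ_two, hc]
    ring
  have hsingle : ∀ f : Fin 2 → Fin 4, (Pi.single f 1 : (Fin 2 → Fin 4) → F) =
      pr (Pi.single (fun _ => f 0) 1) (Pi.single (fun _ => f 1) 1) := by
    intro f
    funext h
    rcases eq_or_ne h f with rfl | hh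
    · simp [pr]
    · obtain ⟨k, hk⟩ := Function.ne_iff.1 hh
      rw [Pi.single_eq_of_ne hh]
      fin_cases k
      · have : (fun _ : Fin 1 => h 0) ≠ fun _ => f 0 := fun c => hk (congrFun c 0)
        simp [pr, this]
      · have : (fun _ : Fin 1 => h 1) ≠ fun _ => f 1 := fun c => hk (congrFun c 0)
        simp [pr, this]
  have hequiv : ∀ g v, Φ (tens hS e g v) = ρB g (Φ v) := by
    intro g v
    rw [pi_eq_sum_univ' v]
    simp only [map_sum, map_smul]
    refine Finset.sum_congr rfl fun f _ => ?_
    rw [hsingle f, hpr, hΦ, hΦ, hβ]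
  rcases eq_or_ne (LinearMap.ker Φ) ⊥ with h | h
  · have h16 := LinearMap.finrank_le_finrank_of_injective (LinearMap.ker_eq_bot.1 h)
    rw [Module.finrank_pi, Fintype.card_fun, Fintype.card_fin, Fintype.card_fin] at h16
    omega
  · have htop : LinearMap.ker Φ = ⊤ := eq_top_of_invariant hS he (fun g v hv => by
      rw [LinearMap.mem_ker] at hv ⊢
      rw [hequiv, hv, map_zero]) h
    refine LinearMap.ext fun a => LinearMap.ext fun b => ?_
    rw [← hΦ]
    exact LinearMap.mem_ker.1 (htop ▸ Submodule.mem_top : pr a b ∈ LinearMap.ker Φ)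

theorem finite_of_natEquiv {V : Type*} [AddCommGroup V] [Module F V]
    (L : W F ≃ₗ[F] V) : Module.Finite F V ∧ Module.finrank F V = 4 :=
  ⟨Module.Finite.equiv L, by rw [← L.finrank_eq, Module.finrank_pi]; simp⟩

theorem add_self_eq_zero_of_module {V : Type*} [AddCommGroup V] [Module F V] (hS : SzField F m)
    (v : V) : v + v = 0 := by
  have := hS.charP
  rw [← one_smul F v, ← add_smul, CharTwo.add_self_eq_zero, zero_smul]

/-- Equivariant bilinear maps vanish, over the field of definition. -/
theorem eq_zero_of_bilinear (hS : SzField F m) :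
    ∀ (n : ℕ) (A A' B : Type u) [AddCommGroup A] [Module F A] [Finite A]
      [AddCommGroup A'] [Module F A'] [Finite A'] [AddCommGroup B] [Module F B] [Finite B]
      (ρA : Representation F (Cfsg.Sz F m) A) (ρA' : Representation F (Cfsg.Sz F m) A')
      (ρB : Representation F (Cfsg.Sz F m) B), OddFix ρA → OddFix ρA' → OddFix ρB →
      Nat.card A + Nat.card A' + Nat.card B = n →
      ∀ β : A →ₗ[F] A' →ₗ[F] B, (∀ g a b, β (ρA g a) (ρA' g b) = ρB g (β a b)) → β = 0 := by
  intro n
  induction n using Nat.strong_induction_on with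
  | _ n ih =>
    intro A A' B _ _ _ _ _ _ _ _ _ ρA ρA' ρB hA hA' hB hn β hβ
    have hlt : ∀ {V : Type u} [AddCommGroup V] [Module F V] [Finite V] (X : Submodule F V),
        X ≠ ⊥ → X ≠ ⊤ → Nat.card X < Nat.card V ∧ Nat.card (V ⧸ X) < Nat.card V := by
      intro V _ _ _ X hb ht
      haveI : Finite (V ⧸ X) := Quotient.finite _
      haveI : Nontrivial X := Submodule.nontrivial_iff_ne_bot.2 hb
      haveI : Nontrivial (V ⧸ X) := Submodule.Quotient.nontrivial_iff.2 ht
      have h := Submodule.card_eq_card_quotient_mul_card X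
      have h1 := Finite.one_lt_card (α := X)
      have h2 := Finite.one_lt_card (α := V ⧸ X)
      exact ⟨by rw [h]; nlinarith, by rw [h]; nlinarith⟩
    by_cases hsub : Subsingleton A ∨ Subsingleton A' ∨ Subsingleton B
    · refine LinearMap.ext fun a => LinearMap.ext fun b => ?_
      rcases hsub with h | h | h
      · rw [Subsingleton.elim a 0]; simp
      · rw [Subsingleton.elim b 0]; simp
      · exact Subsingleton.elim _ _
    push Not at hsub
    obtain ⟨h1, h2, h3⟩ := hsub
    by_cases hAirr : ∃ X : Submodule F A, (∀ g, ∀ v ∈ X, ρA g v ∈ X) ∧ X ≠ ⊥ ∧ X ≠ ⊤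
    · obtain ⟨X, hX, hb, ht⟩ := hAirr
      obtain ⟨hc1, hc2⟩ := hlt X hb ht
      have hres := ih _ (by omega) X A' B (subRep ρA X hX) ρA' ρB (hA.subRep X hX) hA' hB rfl
        (β.comp X.subtype) (fun g a b => by simpa [subRep_apply] using hβ g a b)
      have hle : X ≤ LinearMap.ker β := fun x hx => LinearMap.ext fun b =>
        DFunLike.congr_fun (DFunLike.congr_fun hres ⟨x, hx⟩) b
      haveI : Finite (A ⧸ X) := Quotient.finite _
      have hq := ih _ (by omega) (A ⧸ X) A' B (quotRep ρA X hX) ρA' ρB
        (hA.quotRep (add_self_eq_zero_of_module hS) X hX) hA' hB rfl (X.liftQ β hle) (fun g a b => by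
          induction a using Submodule.Quotient.induction_on with
          | _ a => simpa [quotRep_mk] using hβ g a b)
      exact LinearMap.ext fun a => DFunLike.congr_fun hq (Submodule.Quotient.mk a)
    by_cases hA'irr : ∃ X : Submodule F A', (∀ g, ∀ v ∈ X, ρA' g v ∈ X) ∧ X ≠ ⊥ ∧ X ≠ ⊤
    · obtain ⟨X, hX, hb, ht⟩ := hA'irr
      obtain ⟨hc1, hc2⟩ := hlt X hb ht
      have hres := ih _ (by omega) A X B ρA (subRep ρA' X hX) ρB hA (hA'.subRep X hX) hB rfl
        (β.compl₂ X.subtype) (fun g a b => by simpa [subRep_apply] using hβ g a b)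
      have hle : X ≤ LinearMap.ker β.flip := fun x hx => LinearMap.ext fun a =>
        DFunLike.congr_fun (DFunLike.congr_fun hres a) ⟨x, hx⟩
      haveI : Finite (A' ⧸ X) := Quotient.finite _
      have hq := ih _ (by omega) A (A' ⧸ X) B ρA (quotRep ρA' X hX) ρB hA
        (hA'.quotRep (add_self_eq_zero_of_module hS) X hX) hB rfl (X.liftQ β.flip hle).flip
        (fun g a b => by
          induction b using Submodule.Quotient.induction_on with
          | _ b => simpa [quotRep_mk] using hβ g a b)
      exact LinearMap.ext fun a => LinearMap.ext fun b =>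
        DFunLike.congr_fun (DFunLike.congr_fun hq a) (Submodule.Quotient.mk b)
    by_cases hBirr : ∃ X : Submodule F B, (∀ g, ∀ v ∈ X, ρB g v ∈ X) ∧ X ≠ ⊥ ∧ X ≠ ⊤
    · obtain ⟨X, hX, hb, ht⟩ := hBirr
      obtain ⟨hc1, hc2⟩ := hlt X hb ht
      haveI : Finite (B ⧸ X) := Quotient.finite _
      have hq := ih _ (by omega) A A' (B ⧸ X) ρA ρA' (quotRep ρB X hX) hA hA'
        (hB.quotRep (add_self_eq_zero_of_module hS) X hX) rfl (β.compr₂ X.mkQ)
        (fun g a b => by simp [quotRep_mk, hβ])
      have hmem : ∀ a b, β a b ∈ X := fun a b =>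
        (Submodule.Quotient.mk_eq_zero X).1 (DFunLike.congr_fun (DFunLike.congr_fun hq a) b)
      have hres := ih _ (by omega) A A' X ρA ρA' (subRep ρB X hX) hA hA' (hB.subRep X hX) rfl
        (LinearMap.mk₂ F (fun a b => (⟨β a b, hmem a b⟩ : X))
          (fun a a' b => Subtype.ext (by simp)) (fun c a b => Subtype.ext (by simp))
          (fun a b b' => Subtype.ext (by simp)) (fun c a b => Subtype.ext (by simp)))
        (fun g a b => Subtype.ext (by simpa [subRep_apply] using hβ g a b))
      exact LinearMap.ext fun a => LinearMap.ext fun b =>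
        congrArg Subtype.val (DFunLike.congr_fun (DFunLike.congr_fun hres a) b)
    push Not at hAirr hA'irr hBirr
    obtain ⟨i, L, hL⟩ := exists_equiv_nat hS hA fun X h h' => hAirr X h h'
    obtain ⟨j, L', hL'⟩ := exists_equiv_nat hS hA' fun X h h' => hA'irr X h h'
    obtain ⟨l, L'', hL''⟩ := exists_equiv_nat hS hB fun X h h' => hBirr X h h'
    obtain ⟨_, hfin⟩ := finite_of_natEquiv L''
    haveI := (finite_of_natEquiv L'').1
    set β' : W F →ₗ[F] W F →ₗ[F] B := β.compl₁₂ (L : W F →ₗ[F] A) (L' : W F →ₗ[F] A') with hβ'def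
    have hβ' : ∀ g a b, β' (nat hS i g a) (nat hS j g b) = ρB g (β' a b) := fun g a b => by
      simp [hβ'def, hL, hL', hβ]
    have h0 : β' = 0 := by
      rcases eq_or_ne i j with rfl | hij
      · exact eq_zero_of_nat_nat hS i hB β' hβ'
      · exact eq_zero_of_nat_nat' hS hij (ρB := ρB) hfin.le β' hβ'
    refine LinearMap.ext fun a => LinearMap.ext fun b => ?_
    have := DFunLike.congr_fun (DFunLike.congr_fun h0 (L.symm a)) (L'.symm b)
    simpa [hβ'def] using this

open TensorProduct

/-- A representation over the prime field, extended to `F`. -/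
noncomputable def extRep [Algebra (ZMod 2) F] {G A : Type*} [Group G] [AddCommGroup A]
    [Module (ZMod 2) A] (ρ : Representation (ZMod 2) G A) :
    Representation F G (F ⊗[ZMod 2] A) where
  toFun g := (ρ g).baseChange F
  map_one' := by rw [map_one]; exact LinearMap.baseChange_id
  map_mul' g h := by rw [map_mul]; exact LinearMap.baseChange_comp _ _

theorem OddFix.extRep [Algebra (ZMod 2) F] (hS : SzField F m) {G A : Type*} [Group G]
    [AddCommGroup A] [Module (ZMod 2) A] {ρ : Representation (ZMod 2) G A} (h : OddFix ρ) :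
    OddFix (SuzukiModule.extRep (F := F) ρ) := by
  refine oddFix_of_sum_pow (add_self_eq_zero_of_module hS) fun g ho h1 x => ?_
  induction x using TensorProduct.induction_on with
  | zero => simp
  | tmul c a =>
    show ∑ i ∈ Finset.range (orderOf g), (ρ (g ^ i)).baseChange F (c ⊗ₜ a) = 0
    simp only [LinearMap.baseChange_tmul, ← TensorProduct.tmul_sum, h.sum_pow_eq_zero ho h1,
      TensorProduct.tmul_zero]
  | add x y hx hy => simp only [map_add, Finset.sum_add_distrib, hx, hy, add_zero]

/-- Equivariant bilinear maps vanish, over the prime field. -/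
theorem eq_zero_of_bilinear_two (hS : SzField F m) {A A' B : Type u}
    [AddCommGroup A] [Module (ZMod 2) A] [Finite A]
    [AddCommGroup A'] [Module (ZMod 2) A'] [Finite A']
    [AddCommGroup B] [Module (ZMod 2) B] [Finite B]
    {ρA : Representation (ZMod 2) (Cfsg.Sz F m) A} {ρA' : Representation (ZMod 2) (Cfsg.Sz F m) A'}
    {ρB : Representation (ZMod 2) (Cfsg.Sz F m) B} (hA : OddFix ρA) (hA' : OddFix ρA')
    (hB : OddFix ρB) (β : A →ₗ[ZMod 2] A' →ₗ[ZMod 2] B)
    (hβ : ∀ g a b, β (ρA g a) (ρA' g b) = ρB g (β a b)) : β = 0 := by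
  have := hS.charP
  letI : Algebra (ZMod 2) F := ZMod.algebra F 2
  haveI : Finite (F ⊗[ZMod 2] A) := Module.finite_of_finite F
  haveI : Finite (F ⊗[ZMod 2] A') := Module.finite_of_finite F
  haveI : Finite (F ⊗[ZMod 2] B) := Module.finite_of_finite F
  let βF : (F ⊗[ZMod 2] A) →ₗ[F] (F ⊗[ZMod 2] A') →ₗ[F] (F ⊗[ZMod 2] B) :=
    LinearMap.liftBaseChange F ((LinearMap.baseChangeHom (ZMod 2) F A' B).comp β)
  have happ : ∀ c a d b, βF (c ⊗ₜ a) (d ⊗ₜ b) = (c * d) ⊗ₜ β a b := fun c a d b => by
    simp [βF, TensorProduct.smul_tmul']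
  have h0 : βF = 0 := eq_zero_of_bilinear.{max w u} hS _ _ _ _ (extRep ρA) (extRep ρA') (extRep ρB)
    (hA.extRep hS) (hA'.extRep hS) (hB.extRep hS) rfl βF fun g x y => by
      induction x using TensorProduct.induction_on with
      | zero => simp
      | tmul c a =>
        induction y using TensorProduct.induction_on with
        | zero => simp
        | tmul d b =>
          show βF ((ρA g).baseChange F (c ⊗ₜ a)) ((ρA' g).baseChange F (d ⊗ₜ b)) =
            (ρB g).baseChange F (βF (c ⊗ₜ a) (d ⊗ₜ b))
          simp [happ, hβ]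
        | add y y' hy hy' => simp only [map_add, hy, hy']
      | add x x' hx hx' => simp only [map_add, LinearMap.add_apply, hx, hx']
  obtain ⟨ψ, hψ⟩ := Module.Projective.exists_dual_ne_zero (ZMod 2) (one_ne_zero (α := F))
  refine LinearMap.ext fun a => LinearMap.ext fun b => ?_
  have h := happ 1 a 1 b
  rw [h0, mul_one] at h
  have h' := congrArg (fun z => TensorProduct.lid (ZMod 2) B (ψ.rTensor B z)) h.symm
  simp only [LinearMap.rTensor_tmul, TensorProduct.lid_tmul, LinearMap.zero_apply, map_zero] at h'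
  exact (smul_eq_zero.1 h').resolve_left hψ

end CfsgLib.SuzukiModule
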