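import Cfsg.Agent.SuzukiModule.Bilinear

/-!
# Modules of exponent four of the Suzuki group

If the nontrivial elements of odd order fix only zero, the module has exponent two. The proof
extends scalars to the Galois ring of order `q ^ 2` and compares weights of the torus.
-/

set_option autoImplicit false
set_option linter.style.haveILetI false
set_option linter.unusedSectionVars false

namespace CfsgLib.SuzukiModule

open CfsgLib.Suzuki
open scoped Classical

universe u v w

variable {F : Type u} [Field F] [Fintype F] {m : ℕ}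

theorem four_eq_zero' : (4 : ZMod 4) = 0 := by decide

/-- A Galois ring of characteristic four over `F`. -/
structure Lift (O : Type v) [CommRing O] (F : Type u) [Field F] where
  proj : O →+* F
  surj : Function.Surjective proj
  four : (4 : O) = 0
  ker : ∀ x, proj x = 0 → ∃ y, x = 2 * y

namespace Lift

variable {O : Type v} [CommRing O] (P : Lift O F)

theorem eq_add {x y : O} (h : P.proj x = P.proj y) : ∃ w, x = y + 2 * w := by
  obtain ⟨w, hw⟩ := P.ker (x - y) (by rw [map_sub, h, sub_self])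
  exact ⟨w, by rw [← hw]; ring⟩

theorem pow_two_pow_eq {x y : O} (h : P.proj x = P.proj y) :
    ∀ k, x ^ (2 ^ (k + 1)) = y ^ (2 ^ (k + 1)) := by
  intro k
  obtain ⟨w, rfl⟩ := P.eq_add h
  have h2 : (y + 2 * w) ^ 2 = y ^ 2 := by linear_combination (y * w + w ^ 2) * P.four
  rw [pow_succ' 2 k, pow_mul, pow_mul, h2]

/-- The multiplicative section. -/
noncomputable def tau (c : F) : O := Function.surjInv P.surj c ^ Fintype.card F

variable (hS : SzField F m)
include hS

theorem tau_proj (x : O) : P.tau (P.proj x) = x ^ Fintype.card F := by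
  rw [tau, hS.card_eq]
  exact P.pow_two_pow_eq (Function.surjInv_eq P.surj _) _

theorem proj_tau (c : F) : P.proj (P.tau c) = c := by
  rw [tau, map_pow, Function.surjInv_eq P.surj, FiniteField.pow_card]

theorem tau_mul (a b : F) : P.tau (a * b) = P.tau a * P.tau b := by
  obtain ⟨x, rfl⟩ := P.surj a
  obtain ⟨y, rfl⟩ := P.surj b
  rw [← map_mul, P.tau_proj hS, P.tau_proj hS, P.tau_proj hS, mul_pow]

theorem tau_one : P.tau (1 : F) = 1 := by rw [← map_one P.proj, P.tau_proj hS, one_pow]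

theorem tau_zero : P.tau (0 : F) = 0 := by
  rw [← map_zero P.proj, P.tau_proj hS, zero_pow Fintype.card_ne_zero]

theorem tau_sq_add (u v : F) :
    P.tau (u ^ 2 + v ^ 2) = P.tau u ^ 2 + P.tau v ^ 2 + 2 * (P.tau u * P.tau v) := by
  have := hS.charP
  obtain ⟨w, hw⟩ := P.eq_add (x := P.tau (u + v)) (y := P.tau u + P.tau v)
    (by rw [map_add, P.proj_tau hS, P.proj_tau hS, P.proj_tau hS])
  have e : u ^ 2 + v ^ 2 = (u + v) * (u + v) := by linear_combination -(u * v) * hS.two_eq_zero
  rw [e, P.tau_mul hS, hw]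
  linear_combination ((P.tau u + P.tau v) * w + w ^ 2) * P.four

theorem isUnit_of_proj_ne_zero {x : O} (h : P.proj x ≠ 0) : IsUnit x := by
  obtain ⟨y, hy⟩ := P.surj (P.proj x)⁻¹
  obtain ⟨w, hw⟩ := P.eq_add (x := x * y) (y := 1) (by rw [map_mul, hy, map_one, mul_inv_cancel₀ h])
  refine .of_mul_eq_one (y * (1 + 2 * w)) ?_
  rw [← mul_assoc, hw]
  linear_combination (w + w ^ 2) * P.four

theorem sum_tau_units_pow {k : ℕ} (hk : ¬ Fintype.card F - 1 ∣ k) :
    ∑ μ : Fˣ, P.tau ((μ : F) ^ k) = 0 := by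
  classical
  obtain ⟨a, ha⟩ : ∃ a : Fˣ, a ^ k ≠ 1 := by
    by_contra hall
    push Not at hall
    exact hk ((FiniteField.forall_pow_eq_one_iff F k).1 hall)
  have e : P.tau ((a : F) ^ k) * ∑ μ : Fˣ, P.tau ((μ : F) ^ k) = ∑ μ : Fˣ, P.tau ((μ : F) ^ k) := by
    rw [Finset.mul_sum]
    exact Fintype.sum_equiv (Equiv.mulLeft a) _ _ fun μ => by simp [mul_pow, P.tau_mul hS]
  have hu : IsUnit (P.tau ((a : F) ^ k) - 1) := by
    refine P.isUnit_of_proj_ne_zero hS ?_
    rw [map_sub, map_one, P.proj_tau hS, sub_ne_zero]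
    exact fun h => ha (Units.ext (by simpa using h))
  exact hu.mul_right_eq_zero.1 (by rw [sub_mul, one_mul, e, sub_self])

end Lift

section core

variable {O : Type v} [CommRing O] {W : Type w} [AddCommGroup W] [Module O W]
  {ρ : Representation O (Cfsg.Sz F m) W}

/-- The multiples of two. -/
def double (O : Type v) [CommRing O] (W : Type w) [AddCommGroup W] [Module O W] : Submodule O W :=
  LinearMap.range ((2 : O) • (LinearMap.id : W →ₗ[O] W))

theorem mem_double {x : W} : x ∈ double O W ↔ ∃ y, (2 : O) • y = x := Iff.rfl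

theorem double_inv (g : Cfsg.Sz F m) {x : W} (hx : x ∈ double O W) : ρ g x ∈ double O W := by
  obtain ⟨y, rfl⟩ := mem_double.1 hx
  exact mem_double.2 ⟨ρ g y, (map_smul _ _ _).symm⟩

/-- The multiples of two form a vector space over `F`. -/
@[instance_reducible]
noncomputable def doubleModule (hS : SzField F m) (P : Lift O F) : Module F (double O W) where
  smul c x := P.tau c • x
  one_smul x := by show P.tau 1 • x = x; rw [P.tau_one hS, one_smul]
  mul_smul a b x := by
    show P.tau (a * b) • x = P.tau a • P.tau b • x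
    rw [P.tau_mul hS, mul_smul]
  smul_zero c := smul_zero (P.tau c)
  smul_add c x y := smul_add (P.tau c) x y
  zero_smul x := by show P.tau 0 • x = 0; rw [P.tau_zero hS, zero_smul]
  add_smul a b x := by
    show P.tau (a + b) • x = P.tau a • x + P.tau b • x
    obtain ⟨w, hw⟩ := P.eq_add (x := P.tau (a + b)) (y := P.tau a + P.tau b)
      (by rw [map_add, P.proj_tau hS, P.proj_tau hS, P.proj_tau hS])
    obtain ⟨x, y, rfl⟩ := x
    refine Subtype.ext ?_
    show P.tau (a + b) • (2 : O) • y = P.tau a • (2 : O) • y + P.tau b • (2 : O) • y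
    rw [hw, smul_smul, smul_smul, smul_smul, ← add_smul]
    congr 1
    linear_combination w * P.four

theorem exists_nat_in_double [Finite W] (hS : SzField F m) (P : Lift O F) (hfix : OddFix ρ)
    (h0 : double O W ≠ ⊥) :
    ∃ (i : Fin (2 * m + 1)) (L : ((Fin 1 → Fin 4) → F) →+ W), Function.Injective L ∧
      (∀ v, L v ∈ double O W) ∧ (∀ (c : F) v, L (c • v) = P.tau c • L v) ∧
      ∀ g v, L (nat hS i g v) = ρ g (L v) := by
  letI : Module F (double O W) := doubleModule hS P
  haveI : Nontrivial (double O W) := Submodule.nontrivial_iff_ne_bot.2 h0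
  let ρE : Representation F (Cfsg.Sz F m) (double O W) :=
    { toFun := fun g =>
        { toFun := fun x => ⟨ρ g x, double_inv g x.2⟩
          map_add' := fun x y => Subtype.ext (map_add _ _ _)
          map_smul' := fun c x => Subtype.ext (map_smul (ρ g) (P.tau c) (x : W)) }
      map_one' := LinearMap.ext fun x => Subtype.ext (by simp)
      map_mul' := fun g h => LinearMap.ext fun x => Subtype.ext (by simp) }
  have hE : OddFix ρE := fun g x ho h1 hx =>
    Subtype.ext (hfix g x ho h1 (congrArg Subtype.val hx))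
  haveI : Finite (Submodule F (double O W)) := Finite.of_injective _ SetLike.coe_injective
  obtain ⟨X, ⟨hX, hX0⟩, hmin⟩ := wellFounded_lt.has_min
    {X : Submodule F (double O W) | (∀ g, ∀ v ∈ X, ρE g v ∈ X) ∧ X ≠ ⊥}
    ⟨⊤, fun _ _ _ => Submodule.mem_top, top_ne_bot⟩
  haveI : Nontrivial X := Submodule.nontrivial_iff_ne_bot.2 hX0
  obtain ⟨i, L, hL⟩ := exists_equiv_nat hS (hE.subRep X hX) (by
    intro Y hY hY0
    have hmem : ∀ g, ∀ v ∈ Y.map X.subtype, ρE g v ∈ Y.map X.subtype := by
      rintro g _ ⟨y, hy, rfl⟩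
      exact ⟨_, hY g y hy, rfl⟩
    have hne : Y.map X.subtype ≠ ⊥ := fun h => hY0 (by
      rw [eq_bot_iff]
      intro y hy
      have : (y : double O W) ∈ Y.map X.subtype := ⟨y, hy, rfl⟩
      rw [h, Submodule.mem_bot] at this
      exact (Submodule.mem_bot F).2 (Subtype.ext this))
    by_contra hne'
    refine hmin (Y.map X.subtype) ⟨hmem, hne⟩ (lt_of_le_of_ne (Submodule.map_subtype_le X Y) fun e => hne' ?_)
    refine eq_top_iff.2 fun y _ => ?_
    obtain ⟨z, hz, hzy⟩ := (e.symm ▸ y.2 : (y : double O W) ∈ Y.map X.subtype)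
    exact Subtype.ext hzy ▸ hz)
  refine ⟨i, ((double O W).subtype.toAddMonoidHom.comp (X.subtype.toAddMonoidHom)).comp
    L.toAddEquiv.toAddMonoidHom, ?_, fun v => (L v).1.2, fun c v => ?_, fun g v => ?_⟩
  · exact fun a b h => L.injective (Subtype.ext (Subtype.ext h))
  · show (((L (c • v)) : double O W) : W) = P.tau c • (((L v) : double O W) : W)
    rw [map_smul]
    rfl
  · show (((L (nat hS i g v)) : double O W) : W) = ρ g (((L v) : double O W) : W)
    rw [hL]
    rfl

theorem nat_single (hS : SzField F m) (i : Fin (2 * m + 1)) (g : Cfsg.Sz F m) (r : Fin 4) :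
    nat hS i g (Pi.single (fun _ => r) 1) = ∑ k : Fin 4,
      (((g : Matrix.SpecialLinearGroup (Fin 4) F) : Matrix (Fin 4) (Fin 4) F) k r) ^
          (2 ^ (i : ℕ)) • Pi.single (fun _ => k) (1 : F) := by
  funext f
  rw [nat, tens_single, Fintype.prod_unique, Finset.sum_apply, Finset.sum_eq_single (f default)]
  · have : (fun _ : Fin 1 => f default) = f := funext fun k => congrArg f (Subsingleton.elim _ _)
    simp only [this, Pi.smul_apply, Pi.single_eq_same, smul_eq_mul, mul_one]
  · intro k _ hk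
    have : f ≠ fun _ => k := fun h => hk (by rw [h])
    simp [this]
  · simp

theorem torSz_fixed_eq_zero (hS : SzField F m) (hfix : OddFix ρ) (x : W) :
    ∑ μ : Fˣ, ρ (torSz hS μ) x = 0 := by
  classical
  obtain ⟨μ, hμ⟩ : ∃ μ : Fˣ, μ ≠ 1 := by
    obtain ⟨y, hy0, hy⟩ := exists_θ_ne hS
    exact ⟨Units.mk0 y hy0, fun e => hy (by rw [show y = 1 from congrArg Units.val e, θ_one])⟩
  refine hfix (torSz hS μ) _ (odd_orderOf_torSz hS μ)
    (fun e => hμ (torSz_injective hS (e.trans (map_one _).symm))) ?_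
  rw [map_sum]
  refine Fintype.sum_equiv (Equiv.mulLeft μ) _ _ fun ν => ?_
  simp only [Equiv.coe_mulLeft, map_mul, Module.End.mul_apply]

theorem double_eq_bot [Finite W] (hS : SzField F m) (P : Lift O F) (hfix : OddFix ρ) :
    double O W = ⊥ := by
  classical
  by_contra h0
  have := hS.charP
  obtain ⟨i, L, hLinj, hLmem, hLsmul, hL⟩ := exists_nat_in_double hS P hfix h0
  haveI : Fact (Nat.Prime 2) := ⟨Nat.prime_two⟩
  let e : Fin 4 → W := fun r => L (Pi.single (fun _ => r) 1)
  have hmul : ∀ (g h : Cfsg.Sz F m) (x : W), ρ (g * h) x = ρ g (ρ h x) := fun g h x => by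
    rw [map_mul]; rfl
  have hq : ((Fintype.card Fˣ : ℕ) : O) = -1 := by
    rw [Fintype.card_units, hS.card_eq, Nat.cast_sub Nat.one_le_two_pow]
    push_cast
    obtain ⟨j, hj⟩ : ∃ j, 2 * m + 1 = j + 2 := ⟨2 * m - 1, by have := hS.one_le; omega⟩
    rw [hj, pow_add, show (2 : O) ^ 2 = 4 by norm_num, P.four, mul_zero, zero_sub]
  set h := 2 ^ ((i : ℕ) + m) with hh
  let ν : Fˣ → F := fun μ => (μ : F) * θ m (μ : F)
  have hνh : ∀ μ : Fˣ, ν μ ^ h = ((μ : F) ^ (2 ^ m + 1)) ^ (2 ^ (i : ℕ)) := by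
    intro μ
    have h1 : ν μ ^ (2 ^ m) = (μ : F) ^ (2 ^ m + 1) := by
      simp only [ν, θ, mul_pow, ← pow_mul, ← pow_add]
      rw [show m + 1 + m = 2 * m + 1 by omega, ← hS.card_eq]
      simp only [pow_add, FiniteField.pow_card, pow_one]
    rw [hh, Nat.add_comm, pow_add, pow_mul, h1]
  let χ : Fˣ → O := fun μ => P.tau (ν μ ^ h)
  have hν : ∀ a b : Fˣ, ν (a * b) = ν a * ν b := fun a b => by
    simp only [ν, Units.val_mul, θ_mul]; ring
  have hν0 : ∀ a : Fˣ, ν a ≠ 0 := fun a => mul_ne_zero a.ne_zero (mt θ_eq_zero.1 a.ne_zero)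
  have hχ : ∀ a b, χ (a * b) = χ a * χ b := fun a b => by
    simp only [χ, hν, mul_pow, P.tau_mul hS]
  have hχ1 : χ 1 = 1 := by simp [χ, ν, P.tau_one hS]
  have hχinv : ∀ a, χ a * χ a⁻¹ = 1 := fun a => by rw [← hχ, mul_inv_cancel, hχ1]
  -- eigenvectors
  have he : ∀ (μ : Fˣ) (r : Fin 4), ρ (torSz hS μ) (e r) =
      P.tau (torMat m μ r r ^ (2 ^ (i : ℕ))) • e r := by
    intro μ r
    simp only [e]
    rw [← hL, ← hLsmul, nat_single, Finset.sum_eq_single r]
    · rfl
    · intro k _ hk
      have : torMat m μ k r = 0 := by fin_cases k <;> fin_cases r <;> simp_all [torMat]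
      simp [torSz_val, tor_val, this]
    · simp
  have he0 : ∀ μ : Fˣ, ρ (torSz hS μ) (e 0) = χ μ • e 0 := fun μ => by
    rw [he]; simp [χ, hνh, torMat]
  have he1 : ∀ μ : Fˣ, ρ (torSz hS μ) (e 1) =
      P.tau ((((μ : F) ^ (2 ^ m))) ^ (2 ^ (i : ℕ))) • e 1 := fun μ => by
    rw [he]; simp [torMat]
  have he3 : ∀ μ : Fˣ, χ μ • ρ (torSz hS μ) (e 3) = e 3 := fun μ => by
    rw [he, smul_smul]
    have : ν μ ^ h * (torMat m μ 3 3 ^ (2 ^ (i : ℕ))) = 1 := by
      rw [hνh, ← mul_pow]; simp [torMat]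
    simp only [χ]
    rw [← P.tau_mul hS, this, P.tau_one hS, one_smul]
  have hz : ρ (uniEl hS 0 1) (e 3) = e 0 + e 1 + e 3 := by
    simp only [e]
    rw [← hL, nat_single]
    simp [Fin.sum_univ_succ, uniEl_val, uni_val, uniMat, szF, map_add]
    abel
  -- a weight vector above the lowest one
  obtain ⟨S₀, hS₀⟩ := mem_double.1 (hLmem (Pi.single (fun _ => 3) 1))
  let S : W := -∑ μ : Fˣ, χ μ • ρ (torSz hS μ) S₀
  have h2S : (2 : O) • S = e 3 := by
    simp only [S, smul_neg, Finset.smul_sum]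
    rw [Finset.sum_congr rfl fun μ _ => show (2 : O) • χ μ • ρ (torSz hS μ) S₀ = e 3 by
      rw [smul_comm, ← map_smul, hS₀]; exact he3 μ]
    rw [Finset.sum_const, Finset.card_univ, ← Nat.cast_smul_eq_nsmul O, hq, neg_smul, one_smul, neg_neg]
  have hSeig : ∀ μ : Fˣ, χ μ • ρ (torSz hS μ) S = S := by
    intro μ
    simp only [S, map_neg, map_sum, map_smul, smul_neg, Finset.smul_sum, neg_inj]
    exact Fintype.sum_equiv (Equiv.mulLeft μ) _ _ fun a => by
      simp only [Equiv.coe_mulLeft, hχ, map_mul, Module.End.mul_apply, smul_smul]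
  let r : F → W := fun b => ρ (uniEl hS 0 b) S - S
  have hr : ∀ μ : Fˣ, r (ν μ) = χ μ • ρ (torSz hS μ) (r 1) := by
    intro μ
    have ec := torSz_conj_uniEl hS μ 0 1
    rw [mul_zero, mul_one] at ec
    have e1 : uniEl hS 0 (ν μ) * torSz hS μ = torSz hS μ * uniEl hS 0 1 := by
      show uniEl hS 0 ((μ : F) * θ m (μ : F)) * _ = _
      rw [← ec, inv_mul_cancel_right]
    show ρ (uniEl hS 0 (ν μ)) S - S = _
    simp only [r, map_sub, smul_sub, hSeig]
    conv_lhs => arg 1; rw [← hSeig μ, map_smul, ← hmul, e1, hmul]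
  -- projection to the weight of the highest vector
  let Q : W →ₗ[O] W := -∑ μ : Fˣ, χ μ⁻¹ • ρ (torSz hS μ)
  have hQ : ∀ (μ : Fˣ) (x : W), Q (ρ (torSz hS μ) x) = χ μ • Q x := by
    intro μ x
    simp only [Q, LinearMap.neg_apply, LinearMap.sum_apply, LinearMap.smul_apply, smul_neg,
      Finset.smul_sum, neg_inj]
    refine Fintype.sum_equiv (Equiv.mulRight μ) _ _ fun a => ?_
    simp only [Equiv.coe_mulRight, mul_inv_rev, hχ, smul_smul, ← mul_assoc, hχinv, one_mul, map_mul,
      Module.End.mul_apply]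
  have hQ0 : Q (e 0) = e 0 := by
    simp only [Q, LinearMap.neg_apply, LinearMap.sum_apply, LinearMap.smul_apply, he0, smul_smul,
      mul_comm (χ _⁻¹), hχinv, one_smul, Finset.sum_const, Finset.card_univ]
    rw [← Nat.cast_smul_eq_nsmul O, hq, neg_smul, one_smul, neg_neg]
  have hQ1 : Q (e 1) = 0 := by
    simp only [Q, LinearMap.neg_apply, LinearMap.sum_apply, LinearMap.smul_apply, he1, smul_smul,
      neg_eq_zero]
    rw [← Finset.sum_smul]
    have hk : ¬ Fintype.card F - 1 ∣ 2 ^ (i : ℕ) := by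
      intro hd
      have := Nat.le_of_dvd (by positivity) hd
      have h3 : 2 ^ (i : ℕ) * 2 ≤ Fintype.card F := by
        rw [hS.card_eq, ← pow_succ]
        exact Nat.pow_le_pow_right (by norm_num) i.2
      have := hS.eight_le
      omega
    rw [← Equiv.sum_comp (Equiv.inv Fˣ), Finset.sum_congr rfl (g := fun μ : Fˣ =>
      P.tau ((μ : F) ^ (2 ^ (i : ℕ)))) fun μ _ => ?_, P.sum_tau_units_pow hS hk, zero_smul]
    simp only [χ, hνh, Equiv.inv_apply, inv_inv, ← P.tau_mul hS]
    congr 1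
    rw [← mul_pow, pow_succ, mul_comm, ← mul_assoc, ← mul_pow]
    simp
  set Y := Q (r 1) with hY
  have h2Y : (2 : O) • Y = e 0 := by
    have h2e : e 3 + e 3 = 0 := by
      rw [← h2S, ← add_smul, show (2 : O) + 2 = 4 by norm_num, P.four, zero_smul]
    rw [hY, ← map_smul, smul_sub, ← map_smul, h2S, hz, add_sub_cancel_right, map_add, hQ0, hQ1,
      add_zero]
  have hf : ∀ b : F, Q (r b) = P.tau (b ^ h) ^ 2 • Y := by
    intro b
    rcases eq_or_ne b 0 with rfl | hb
    · rw [zero_pow (by rw [hh]; positivity), P.tau_zero hS, zero_pow two_ne_zero, zero_smul]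
      simp [r, uniEl_zero hS]
    · obtain ⟨x, rfl⟩ := self_mul_θ_surjective hS b
      have hx : x ≠ 0 := fun hx => hb (by simp [hx])
      show Q (r (ν (Units.mk0 x hx))) = χ (Units.mk0 x hx) ^ 2 • Y
      rw [hr, map_smul, hQ, smul_smul, ← pow_two]
  have hzero : ∑ μ : Fˣ, χ μ⁻¹ • r (ν μ) = 0 := by
    simp only [hr, smul_smul, mul_comm (χ _⁻¹), hχinv, one_smul]
    exact torSz_fixed_eq_zero hS hfix _
  have hcoc : ∀ b : F, r (1 + b) = r 1 + ρ (uniEl hS 0 1) (r b) := by
    intro b
    simp only [r, map_sub, ← hmul, uniEl_mul, add_zero, θ_zero, zero_mul]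
    abel
  have hkey : Q (∑ μ : Fˣ, χ μ⁻¹ • (r (1 + ν μ) - r 1)) = 0 := by
    simp only [hcoc, add_sub_cancel_left, ← map_smul, ← map_sum, hzero, map_zero]
  have hpow : ∀ μ : Fˣ, (1 + ν μ) ^ h = 1 + ν μ ^ h := fun μ => by
    rw [hh, add_pow_char_pow, one_pow]
  have hterm : ∀ μ : Fˣ, Q (χ μ⁻¹ • (r (1 + ν μ) - r 1)) = (χ μ + 2) • Y := by
    intro μ
    rw [map_smul, map_sub, hf, hf, one_pow, P.tau_one hS, hpow, ← sub_smul, smul_smul]
    congr 1
    have := P.tau_sq_add hS 1 (ν μ ^ h)
    rw [P.tau_one hS, one_pow] at this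
    rw [one_pow, pow_two, ← P.tau_mul hS, show (1 + ν μ ^ h) * (1 + ν μ ^ h) = 1 + (ν μ ^ h) ^ 2 by
      linear_combination (ν μ ^ h) * hS.two_eq_zero, this]
    linear_combination (χ μ + 2) * hχinv μ
  rw [map_sum] at hkey
  simp only [hterm, ← Finset.sum_smul, Finset.sum_add_distrib] at hkey
  have hsum : ∑ μ : Fˣ, χ μ = 0 := by
    rw [Finset.sum_congr rfl fun μ _ => show χ μ = P.tau ((μ : F) ^ ((2 ^ m + 1) * 2 ^ (i : ℕ))) by
      simp only [χ, hνh, pow_mul]]
    refine P.sum_tau_units_pow hS fun hd => ?_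
    have hall := (FiniteField.forall_pow_eq_one_iff F ((2 ^ m + 1) * 2 ^ (i : ℕ))).2 hd
    obtain ⟨y, hy0, hy⟩ := exists_θ_ne hS
    have h1 := congrArg Units.val (hall (Units.mk0 y hy0))
    rw [pow_mul] at h1
    simp only [Units.val_pow_eq_pow_val, Units.val_mk0, Units.val_one] at h1
    have h2 : y ^ (2 ^ m + 1) = 1 :=
      (pow_two_pow_bijective hS (i : ℕ)).1 (by simpa using h1)
    have h3 : (Units.mk0 y hy0) = 1 := pow_succ_injective hS (Units.ext (by simpa using h2))
    exact hy (by rw [show y = 1 from congrArg Units.val h3, θ_one])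
  rw [hsum, zero_add, Finset.sum_const, Finset.card_univ, nsmul_eq_mul, hq, neg_one_mul, neg_smul,
    h2Y, neg_eq_zero] at hkey
  have : (Pi.single (fun _ => 0) 1 : (Fin 1 → Fin 4) → F) = 0 :=
    hLinj (hkey.trans (map_zero L).symm)
  simpa using congrFun this fun _ => 0

end core

theorem exists_lift (hS : SzField F m) :
    ∃ (O : Type) (_ : CommRing O) (_ : Algebra (ZMod 4) O) (_ : Finite O) (_ : Lift O F),
      ∃ ψ : O →ₗ[ZMod 4] ZMod 4, ψ 1 = 1 := by
  classical
  have := hS.charP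
  letI : Algebra (ZMod 2) F := ZMod.algebra F 2
  obtain ⟨α, hα⟩ := IsCyclic.exists_generator (α := Fˣ)
  set g := minpoly (ZMod 2) (α : F)
  have hint : IsIntegral (ZMod 2) (α : F) := IsIntegral.of_finite _ _
  let red : ZMod 4 →+* ZMod 2 := ZMod.castHom (by norm_num) _
  have hred : Function.Surjective red := ZMod.castHom_surjective (h := by norm_num)
  obtain ⟨f, hfg, hfd, hfm⟩ := Polynomial.lifts_and_degree_eq_and_monic
    (f := red) (p := g) (by
      rw [Polynomial.lifts_iff_coeff_lifts]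
      exact fun k => hred _) (minpoly.monic hint)
  have hpos : 0 < f.natDegree := by
    rw [Polynomial.natDegree_eq_of_degree_eq hfd]
    exact minpoly.natDegree_pos hint
  haveI : Fact (1 < 4) := ⟨by norm_num⟩
  let iF : ZMod 4 →+* F := (algebraMap (ZMod 2) F).comp red
  have heval : Polynomial.eval₂ iF (α : F) f = 0 := by
    rw [← Polynomial.eval₂_map, hfg]
    exact minpoly.aeval _ _
  refine ⟨AdjoinRoot f, inferInstance, inferInstance, ?_, ⟨AdjoinRoot.lift iF (α : F) heval, ?_, ?_, ?_⟩,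
    (Polynomial.lcoeff (ZMod 4) 0).comp (AdjoinRoot.modByMonicHom hfm), ?_⟩
  · haveI := hfm.finite_adjoinRoot
    exact Module.finite_of_finite (ZMod 4)
  · intro c
    rcases eq_or_ne c 0 with rfl | hc
    · exact ⟨0, map_zero _⟩
    · obtain ⟨k, hk⟩ := (mem_powers_iff_mem_zpowers (G := Fˣ)).2 (hα (Units.mk0 c hc))
      refine ⟨AdjoinRoot.root f ^ k, ?_⟩
      rw [map_pow, AdjoinRoot.lift_root, ← Units.val_pow_eq_pow_val]
      exact congrArg Units.val hk
  · rw [← map_ofNat (algebraMap (ZMod 4) (AdjoinRoot f)) 4, four_eq_zero', map_zero]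
  · intro x hx
    obtain ⟨p, rfl⟩ := AdjoinRoot.mk_surjective x
    rw [AdjoinRoot.lift_mk, ← Polynomial.eval₂_map] at hx
    obtain ⟨q, hq⟩ := minpoly.dvd (ZMod 2) (α : F) (p := p.map red) hx
    obtain ⟨q', rfl⟩ := Polynomial.map_surjective red hred q
    obtain ⟨r, hr⟩ : Polynomial.C (2 : ZMod 4) ∣ p - f * q' := by
      rw [Polynomial.C_dvd_iff_dvd_coeff]
      intro k
      have h0 : red ((p - f * q').coeff k) = 0 := by
        rw [← Polynomial.coeff_map, Polynomial.map_sub, Polynomial.map_mul, hfg, hq, sub_self,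
          Polynomial.coeff_zero]
      have hker : ∀ y : ZMod 4, (ZMod.castHom (show 2 ∣ 4 by norm_num) (ZMod 2)) y = 0 → 2 ∣ y := by
        intro y hy
        fin_cases y
        · exact dvd_zero _
        · exact absurd hy (by decide)
        · exact dvd_rfl
        · exact absurd hy (by decide)
      exact hker _ h0
    refine ⟨AdjoinRoot.mk f r, ?_⟩
    have := congrArg (AdjoinRoot.mk f) hr
    rw [map_sub, map_mul, AdjoinRoot.mk_self, zero_mul, sub_zero, map_mul] at this
    rw [this, show (2 : ZMod 4) = ((2 : ℕ) : ZMod 4) from rfl, map_natCast, map_natCast]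
    rfl
  · rw [LinearMap.comp_apply, ← map_one (AdjoinRoot.mk f), AdjoinRoot.modByMonicHom_mk,
      Polynomial.lcoeff_apply, (Polynomial.modByMonic_eq_self_iff hfm).2]
    · simp
    · rw [Polynomial.degree_one]
      exact Polynomial.natDegree_pos_iff_degree_pos.1 hpos

open TensorProduct

/-- A module of exponent four with odd elements fixed point free has exponent two. -/
theorem two_smul_eq_zero_of_oddFix (hS : SzField F m) {A : Type w} [AddCommGroup A]
    [Module (ZMod 4) A] [Finite A] {ρ : Representation (ZMod 4) (Cfsg.Sz F m) A} (hfix : OddFix ρ)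
    (a : A) : (2 : ZMod 4) • a = 0 := by
  obtain ⟨O, _, _, _, P, ψ, hψ⟩ := exists_lift hS
  haveI : Module.Finite (ZMod 4) O := Module.Finite.of_finite
  haveI : Module.Finite (ZMod 4) A := Module.Finite.of_finite
  haveI : Finite (O ⊗[ZMod 4] A) := Module.finite_of_finite (ZMod 4)
  let σ : Representation O (Cfsg.Sz F m) (O ⊗[ZMod 4] A) :=
    { toFun := fun g => (ρ g).baseChange O
      map_one' := by rw [map_one]; exact LinearMap.baseChange_id
      map_mul' := fun g h => by rw [map_mul]; exact LinearMap.baseChange_comp _ _ }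
  have hσ : OddFix σ := by
    intro g x ho h1 hx
    have hsum : ∀ y : O ⊗[ZMod 4] A, ∑ k ∈ Finset.range (orderOf g), σ (g ^ k) y = 0 := by
      intro y
      induction y using TensorProduct.induction_on with
      | zero => simp
      | tmul c b =>
        show ∑ k ∈ Finset.range (orderOf g), (ρ (g ^ k)).baseChange O (c ⊗ₜ b) = 0
        simp only [LinearMap.baseChange_tmul, ← TensorProduct.tmul_sum, hfix.sum_pow_eq_zero ho h1,
          TensorProduct.tmul_zero]
      | add u v hu hv => simp only [map_add, Finset.sum_add_distrib, hu, hv, add_zero]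
    have hp : ∀ k, σ (g ^ k) x = x := by
      intro k
      induction k with
      | zero => simp
      | succ k ih => rw [pow_succ, map_mul, Module.End.mul_apply, hx, ih]
    have hs := hsum x
    simp only [hp, Finset.sum_const, Finset.card_range] at hs
    obtain ⟨k, hk⟩ := ho
    rw [hk, ← Nat.cast_smul_eq_nsmul O] at hs
    have hu : IsUnit ((2 * k + 1 : ℕ) : O) := .of_mul_eq_one ((2 * k + 1 : ℕ) : O)
      (by push_cast; linear_combination ((k : O) ^ 2 + k) * P.four)
    exact hu.smul_eq_zero.1 hs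
  have h := double_eq_bot (W := O ⊗[ZMod 4] A) hS P hσ
  have h2 : (2 : O) • ((1 : O) ⊗ₜ[ZMod 4] a) = 0 :=
    (Submodule.mem_bot O).1 (h ▸ mem_double.2 ⟨_, rfl⟩)
  rw [TensorProduct.smul_tmul', smul_eq_mul, mul_one,
    show (2 : O) = (2 : ZMod 4) • (1 : O) by rw [Algebra.smul_def, mul_one, map_ofNat]] at h2
  have h' := congrArg (fun z => TensorProduct.lid (ZMod 4) A (ψ.rTensor A z)) h2
  simpa [hψ] using h'

end CfsgLib.SuzukiModule
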