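import Cfsg.Agent.SuzukiModule.Tensor

/-!
# The irreducible modules of the Suzuki group with odd elements fixed point free

Such a module is a Frobenius twist of the natural module.
-/

set_option autoImplicit false
set_option linter.style.haveILetI false
set_option linter.unusedSectionVars false

namespace CfsgLib.SuzukiModule

open CfsgLib.Suzuki

variable {F : Type*} [Field F] [Fintype F] {m : ℕ}

local notation "SL4" F:max => Matrix.SpecialLinearGroup (Fin 4) F

/-- The natural module twisted by the `i`-th power of the Frobenius map. -/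
def nat (hS : SzField F m) (i : Fin (2 * m + 1)) :
    Representation F (Cfsg.Sz F m) ((Fin 1 → Fin 4) → F) :=
  tens hS (fun _ => i)

theorem pow_succ_injective (hS : SzField F m) :
    Function.Injective (fun μ : Fˣ => μ ^ (2 ^ m + 1)) := by
  intro μ ν h
  have key : ∀ x : F, θ m (x ^ (2 ^ m + 1)) = x * θ m x := by
    intro x
    rw [θ, θ, ← pow_mul, add_mul, one_mul, ← pow_add, show m + (m + 1) = 2 * m + 1 by omega,
      pow_add, ← hS.card_eq, FiniteField.pow_card]
  refine Units.ext (self_mul_θ_injective hS ?_)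
  simp only [← key]
  exact congrArg (θ m) (by simpa using congrArg Units.val h)

theorem odd_orderOf_torSz (hS : SzField F m) (μ : Fˣ) : Odd (orderOf (torSz hS μ)) := by
  rw [orderOf_injective _ (torSz_injective hS)]
  refine Odd.of_dvd_nat ?_ (orderOf_dvd_natCard μ)
  rw [Nat.card_units, Nat.card_eq_fintype_card, hS.card_eq]
  exact Nat.Even.sub_odd Nat.one_le_two_pow (Nat.even_pow.2 ⟨even_two, by omega⟩) odd_one

theorem prod_units_X_sub_C [DecidableEq F] (hS : SzField F m) :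
    ∏ ζ : Fˣ, (Polynomial.X - Polynomial.C (ζ : F)) = Polynomial.X ^ (Fintype.card F - 1) - 1 := by
  classical
  have hn : 0 < Fintype.card F - 1 := by have := hS.eight_le; omega
  set P := ∏ ζ : Fˣ, (Polynomial.X - Polynomial.C (ζ : F)) with hP
  set Q : Polynomial F := Polynomial.X ^ (Fintype.card F - 1) - Polynomial.C 1 with hQ
  have hm : P.Monic := Polynomial.monic_prod_X_sub_C _ _
  have hd : P.degree = Q.degree := by
    rw [hP, Polynomial.degree_prod, hQ, Polynomial.degree_X_pow_sub_C hn]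
    simp [Fintype.card_units]
  rw [← map_one Polynomial.C, ← hQ]
  by_contra hne
  have hlt := Polynomial.degree_sub_lt hd hm.ne_zero (by
    rw [hm.leadingCoeff, (Polynomial.monic_X_pow_sub_C 1 hn.ne').leadingCoeff])
  refine hne (sub_eq_zero.1 (Polynomial.eq_zero_of_natDegree_lt_card_of_eval_eq_zero (P - Q)
    (f := fun ζ : Fˣ => (ζ : F)) Units.val_injective (fun ζ => ?_) ?_))
  · rw [Polynomial.eval_sub, hP, Polynomial.eval_prod, hQ,
      Finset.prod_eq_zero (Finset.mem_univ ζ) (by simp)]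
    simp [FiniteField.pow_card_sub_one_eq_one]
  · rw [Polynomial.natDegree_lt_iff_degree_lt (sub_ne_zero.2 hne)]
    refine hlt.trans_le (le_of_eq ?_)
    rw [hd, hQ, Polynomial.degree_X_pow_sub_C hn, Fintype.card_units]

/-- An endomorphism whose order divides that of the group of units of `F` has an eigenvector. -/
theorem exists_eigen (hS : SzField F m) {V : Type*} [AddCommGroup V] [Module F V] (A : V →ₗ[F] V)
    (hA : A ^ (Fintype.card F - 1) = 1) {W : Submodule F V} (hW : ∀ v ∈ W, A v ∈ W) (hW0 : W ≠ ⊥) :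
    ∃ (ζ : Fˣ) (v : V), v ∈ W ∧ v ≠ 0 ∧ A v = (ζ : F) • v := by
  classical
  have := hS.eight_le
  obtain ⟨w, hw, hw0⟩ := W.exists_mem_ne_zero_of_ne_bot hW0
  have h0 : Polynomial.aeval A (∏ ζ : Fˣ, (Polynomial.X - Polynomial.C (ζ : F))) w = 0 := by
    rw [prod_units_X_sub_C hS]
    simp [hA]
  have key : ∀ s : Finset Fˣ,
      Polynomial.aeval A (∏ ζ ∈ s, (Polynomial.X - Polynomial.C (ζ : F))) w ∈ W ∧
        (Polynomial.aeval A (∏ ζ ∈ s, (Polynomial.X - Polynomial.C (ζ : F))) w = 0 →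
          ∃ (ζ : Fˣ) (v : V), v ∈ W ∧ v ≠ 0 ∧ A v = (ζ : F) • v) := by
    intro s
    induction s using Finset.induction_on with
    | empty => simp [hw, hw0]
    | @insert ζ s hζ ih =>
      rw [Finset.prod_insert hζ, map_mul, Module.End.mul_apply]
      set u := Polynomial.aeval A (∏ ζ ∈ s, (Polynomial.X - Polynomial.C (ζ : F))) w
      have e : Polynomial.aeval A (Polynomial.X - Polynomial.C (ζ : F)) u = A u - (ζ : F) • u := by
        simp
      refine ⟨e ▸ sub_mem (hW _ ih.1) (W.smul_mem _ ih.1), fun h => ?_⟩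
      rcases eq_or_ne u 0 with hu | hu
      · exact ih.2 hu
      · exact ⟨ζ, u, ih.1, hu, sub_eq_zero.1 (e.symm.trans h)⟩
  exact (key Finset.univ).2 h0

theorem exists_sum_two_pow {n k : ℕ} (hk : k < 2 ^ n) :
    ∃ I : Finset (Fin n), k = ∑ i ∈ I, 2 ^ (i : ℕ) := by
  let f : Fin n → Fin 2 := finFunctionFinEquiv.symm ⟨k, hk⟩
  refine ⟨Finset.univ.filter fun i => f i = 1, ?_⟩
  have : k = ∑ i, (f i : ℕ) * 2 ^ (i : ℕ) := by
    have := congrArg Fin.val (finFunctionFinEquiv.apply_symm_apply (⟨k, hk⟩ : Fin (2 ^ n)))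
    rw [finFunctionFinEquiv_apply] at this
    exact this.symm
  rw [this, Finset.sum_filter]
  refine Finset.sum_congr rfl fun i _ => ?_
  generalize f i = y
  fin_cases y <;> simp

section

variable {V : Type*} [AddCommGroup V] [Module F V] [Finite V]

theorem exists_dual_fixed [Nontrivial V] (hS : SzField F m)
    (ρ : Representation F (Cfsg.Sz F m) V) :
    ∃ φ : Module.Dual F V, φ ≠ 0 ∧ ∀ a b v, φ (ρ (uniEl hS a b) v) = φ v := by
  have := hS.charP
  haveI : Finite (Module.Dual F V) := Finite.of_injective _ DFunLike.coe_injective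
  obtain ⟨φ, -, h0, h⟩ := exists_fixed_ne_zero
    (fun φ : Module.Dual F V => LinearMap.ext fun v => CharTwo.add_self_eq_zero (φ v)) ρ.dual
    (isPGroup_uniSub hS) (X := ⊤) (fun _ _ _ => Submodule.mem_top) top_ne_bot
  refine ⟨φ, h0, fun a b v => ?_⟩
  have := h _ ((uniSub hS).inv_mem (uniEl_mem hS a b))
  have := DFunLike.congr_fun this v
  simpa [Representation.dual_apply, Module.Dual.transpose_apply] using this

variable (hS : SzField F m) {ρ : Representation F (Cfsg.Sz F m) V}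

theorem dual_apply_eq_zero (hfix : OddFix ρ) {c : V} (hc : ∀ a b, ρ (uniEl hS a b) c = c)
    {φ : Module.Dual F V} (hφ : ∀ a b v, φ (ρ (uniEl hS a b) v) = φ v) : φ c = 0 := by
  have := hS.charP
  let z := uniEl hS (0 : F) 1
  let x : Cfsg.Sz F m := weylEl hS * z
  have hz : z * z = 1 := by
    rw [uniEl_mul, ← uniEl_zero hS]
    simp [CharTwo.add_self_eq_zero]
  have hw : weylEl hS * weylEl hS = 1 := Subtype.ext weyl_mul_weyl
  have h5 : x ^ 5 = 1 := by
    apply Subtype.ext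
    apply Subtype.ext
    have : ((x : SL4 F) : Matrix (Fin 4) (Fin 4) F) = (ZMod.castHom (dvd_refl 2) F).mapMatrix fiveMat := by
      ext i k
      fin_cases i <;> fin_cases k <;>
        simp [x, z, fiveMat, weylEl, weyl_val, weylMat, uniEl_val, uni_val, uniMat, szF,
          Matrix.mul_apply, Fin.sum_univ_succ]
    simp only [Subgroup.coe_pow, Matrix.SpecialLinearGroup.coe_pow, this, ← map_pow,
      show fiveMat ^ 5 = 1 by decide, map_one]
    rfl
  have hx1 : x ≠ 1 := fun h => by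
    have := congrFun (congrFun (congrArg (fun g : Cfsg.Sz F m => ((g : SL4 F) : Matrix (Fin 4) (Fin 4) F)) h) 0) 0
    simp [x, z, weylEl, weyl_val, weylMat, uniEl_val, uni_val, uniMat, Matrix.mul_apply,
      Fin.sum_univ_succ] at this
  haveI : Fact (Nat.Prime 5) := ⟨by norm_num⟩
  have hmul : ∀ (g h : Cfsg.Sz F m) (v : V), ρ (g * h) v = ρ g (ρ h v) := fun g h v => by
    rw [map_mul]; rfl
  let s : V := c + ρ x c + ρ (x ^ 2) c + ρ (x ^ 3) c + ρ (x ^ 4) c
  have hs : s = 0 := by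
    refine hfix x s (by rw [orderOf_eq_prime h5 hx1]; decide) hx1 ?_
    simp only [s, map_add, ← hmul, ← pow_succ']
    rw [← pow_two, show x ^ (4 + 1) = 1 from h5, map_one]
    simp only [Module.End.one_apply]
    abel
  have e4 : x ^ 4 = z * weylEl hS := by
    have h1 : (z * weylEl hS) * x = 1 := by
      show z * weylEl hS * (weylEl hS * z) = 1
      rw [mul_assoc, ← mul_assoc (weylEl hS), hw, one_mul, hz]
    rw [eq_inv_of_mul_eq_one_left h1]
    exact eq_inv_of_mul_eq_one_left (by rw [← pow_succ]; exact h5)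
  have e3 : x ^ 3 = z * weylEl hS * (z * weylEl hS) := by
    rw [← e4, ← pow_add, show 4 + 4 = 5 + 3 from rfl, pow_add, h5, one_mul]
  have hzc : ρ z c = c := hc 0 1
  have h := congrArg φ hs
  simp only [s, e4, e3, pow_two, hmul, map_add, map_zero, hzc, x] at h
  simp only [show ∀ v, φ (ρ z v) = φ v from fun v => hφ 0 1 v] at h
  linear_combination h - (φ (ρ (weylEl hS) c) + φ (ρ (weylEl hS) (ρ z (ρ (weylEl hS) c)))) * hS.two_eq_zero

/-- An eigenvector of the torus among the fixed vectors of the unipotent group. -/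
theorem exists_torus_eigen [Nontrivial V] (hfix : OddFix ρ) :
    ∃ (c : V) (k : ℕ), c ≠ 0 ∧ k ≠ 0 ∧ k < 2 ^ (2 * m + 1) ∧ (∀ a b, ρ (uniEl hS a b) c = c) ∧
      ∀ μ : Fˣ, ρ (torSz hS μ) c = ((μ : F) ^ (2 ^ m + 1)) ^ k • c := by
  classical
  have := hS.charP
  have hmul : ∀ (g h : Cfsg.Sz F m) (v : V), ρ (g * h) v = ρ g (ρ h v) := fun g h v => by
    rw [map_mul]; rfl
  -- an eigenvector of the torus among the fixed vectors of the unipotent group
  let C : Submodule F V := ⨅ p : F × F, LinearMap.eqLocus (ρ (uniEl hS p.1 p.2)) LinearMap.id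
  have hC : ∀ v, v ∈ C ↔ ∀ a b, ρ (uniEl hS a b) v = v := fun v => by
    simp [C, Submodule.mem_iInf, LinearMap.mem_eqLocus]
  have hC0 : C ≠ ⊥ := by
    obtain ⟨v, -, hv0, hv⟩ := exists_fixed_ne_zero
      (fun v : V => by rw [← one_smul F v, ← add_smul, CharTwo.add_self_eq_zero, zero_smul]) ρ
      (isPGroup_uniSub hS) (X := ⊤) (fun _ _ _ => Submodule.mem_top) top_ne_bot
    exact fun e => hv0 ((Submodule.mem_bot F).1 (e ▸ (hC v).2 fun a b => hv _ (uniEl_mem hS a b)))
  obtain ⟨μ₀, hμ₀⟩ := IsCyclic.exists_generator (α := Fˣ)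
  have hCtor : ∀ v ∈ C, ρ (torSz hS μ₀) v ∈ C := by
    intro v hv
    rw [hC] at hv ⊢
    intro a b
    have e := torSz_conj_uniEl hS μ₀ ((μ₀ : F)⁻¹ * a) (((μ₀ : F) * θ m (μ₀ : F))⁻¹ * b)
    have hne : (μ₀ : F) * θ m (μ₀ : F) ≠ 0 := mul_ne_zero μ₀.ne_zero (mt θ_eq_zero.1 μ₀.ne_zero)
    rw [mul_inv_eq_iff_eq_mul, ← mul_assoc, mul_inv_cancel₀ μ₀.ne_zero, one_mul, ← mul_assoc,
      mul_inv_cancel₀ hne, one_mul] at e
    rw [← hmul, ← e, hmul, hv]
  have hord : (ρ (torSz hS μ₀)) ^ (Fintype.card F - 1) = 1 := by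
    rw [← map_pow, ← map_pow, ← Nat.card_eq_fintype_card, ← Nat.card_units, pow_card_eq_one',
      map_one, map_one]
  obtain ⟨ζ, c, hcC, hc0, hζ⟩ := exists_eigen hS (ρ (torSz hS μ₀)) hord hCtor hC0
  rw [hC] at hcC
  have hgen : ∀ μ : Fˣ, μ ∈ Submonoid.powers (μ₀ ^ (2 ^ m + 1)) := by
    intro μ
    obtain ⟨ν, rfl⟩ := Finite.surjective_of_injective (pow_succ_injective hS) μ
    obtain ⟨j, rfl⟩ := (mem_powers_iff_mem_zpowers (G := Fˣ)).2 (hμ₀ ν)
    exact ⟨j, by simp only [← pow_mul]; rw [mul_comm]⟩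
  obtain ⟨k₀, hk₀⟩ := hgen ζ
  set k := k₀ % (Fintype.card F - 1)
  have hk : (μ₀ ^ (2 ^ m + 1)) ^ k = ζ := by
    rw [← hk₀]
    show _ = (μ₀ ^ (2 ^ m + 1)) ^ k₀
    conv_rhs => rw [← Nat.mod_add_div k₀ (Fintype.card F - 1), pow_add _ (k₀ % _), pow_mul _ (Fintype.card F - 1),
      show (μ₀ ^ (2 ^ m + 1)) ^ (Fintype.card F - 1) = 1 by
        rw [← Nat.card_eq_fintype_card, ← Nat.card_units, pow_card_eq_one'], one_pow, mul_one]
  have heig : ∀ μ : Fˣ, ρ (torSz hS μ) c = ((μ : F) ^ (2 ^ m + 1)) ^ k • c := by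
    intro μ
    obtain ⟨j, rfl⟩ := (mem_powers_iff_mem_zpowers (G := Fˣ)).2 (hμ₀ μ)
    have : ∀ j : ℕ, ρ (torSz hS (μ₀ ^ j)) c = ((ζ ^ j : Fˣ) : F) • c := by
      intro j
      induction j with
      | zero => simp
      | succ j ih =>
        rw [pow_succ, map_mul, hmul, hζ, map_smul, ih, smul_smul, pow_succ ζ, Units.val_mul, mul_comm]
    rw [this, ← hk]
    simp only [Units.val_pow_eq_pow_val, ← pow_mul]
    congr 2
    ring
  have hk0 : k ≠ 0 := by
    intro h0
    obtain ⟨μ, hμ⟩ : ∃ μ : Fˣ, μ ≠ 1 := by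
      obtain ⟨x, hx0, hx⟩ := exists_θ_ne hS
      exact ⟨Units.mk0 x hx0, fun e => hx (by rw [show x = 1 from congrArg Units.val e, θ_one])⟩
    refine hc0 (hfix _ c (odd_orderOf_torSz hS μ) ?_ ?_)
    · exact fun e => hμ (torSz_injective hS (e.trans (map_one _).symm))
    · rw [heig, h0, pow_zero, one_smul]
  have hklt : k < 2 ^ (2 * m + 1) := by
    have := hS.eight_le
    have := Nat.mod_lt k₀ (show Fintype.card F - 1 > 0 by omega)
    rw [← hS.card_eq]
    omega
  exact ⟨c, k, hc0, hk0, hklt, hcC, heig⟩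

/-- An irreducible module with the highest weight of a tensor product of twists is that product. -/
theorem exists_equiv_of_eigen {J : Type*} [Fintype J] [DecidableEq J] [Nonempty J]
    {e : J → Fin (2 * m + 1)} (he : Function.Injective e) (hfix : OddFix ρ)
    (hirr : ∀ X : Submodule F V, (∀ g, ∀ v ∈ X, ρ g v ∈ X) → X ≠ ⊥ → X = ⊤) {c : V} {k : ℕ}
    (hc0 : c ≠ 0) (hcC : ∀ a b, ρ (uniEl hS a b) c = c)
    (heig : ∀ μ : Fˣ, ρ (torSz hS μ) c = ((μ : F) ^ (2 ^ m + 1)) ^ k • c)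
    (hsum : ∑ j, 2 ^ (e j : ℕ) = k) :
    ∃ L : ((J → Fin 4) → F) ≃ₗ[F] V, ∀ g v, L (tens hS e g v) = ρ g (L v) := by
  classical
  have := hS.charP
  haveI : Nontrivial V := ⟨⟨c, 0, hc0⟩⟩
  let τ := tens hS e
  have heigt : ∀ μ : Fˣ, τ (torSz hS μ) (tVec F _) = ((μ : F) ^ (2 ^ m + 1)) ^ k • tVec F _ := by
    intro μ
    rw [tens_tor_tVec, Finset.prod_pow_eq_pow_sum, hsum]
  obtain ⟨φ, hφ0, hφ⟩ := exists_dual_fixed hS ρ
  have hφc : φ c = 0 := dual_apply_eq_zero hS hfix hcC hφ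
  -- a spanning set for an orbit
  let π : Representation F (Cfsg.Sz F m) (V × ((J → Fin 4) → F)) :=
    { toFun := fun g => (ρ g).prodMap (τ g)
      map_one' := by simp
      map_mul' := fun g h => by simp only [map_mul]; rfl }
  have hπ : ∀ g (z : V × ((J → Fin 4) → F)), π g z = (ρ g z.1, τ g z.2) := fun g z => rfl
  let x₀ : V × ((J → Fin 4) → F) := (c, tVec F _)
  let X : Submodule F (V × ((J → Fin 4) → F)) := Submodule.span F (Set.range fun g => π g x₀)
  have hXinv : ∀ g, ∀ z ∈ X, π g z ∈ X := by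
    intro g z hz
    induction hz using Submodule.span_induction with
    | mem z hz =>
      obtain ⟨h, rfl⟩ := hz
      refine Submodule.subset_span ⟨g * h, ?_⟩
      show π (g * h) x₀ = π g (π h x₀)
      rw [map_mul]; rfl
    | zero => rw [map_zero]; exact zero_mem _
    | add a b _ _ ha hb => rw [map_add]; exact add_mem ha hb
    | smul r a _ ha => rw [map_smul]; exact X.smul_mem r ha
  have hx₀ : x₀ ∈ X := Submodule.subset_span ⟨1, by simp⟩
  set κ := φ (ρ (weylEl hS) c) with hκdef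
  let Φ : V × ((J → Fin 4) → F) →ₗ[F] F := φ.coprod ((-κ) • LinearMap.proj (fun _ => 3))
  have hτ3 : ∀ a b (v : ((J → Fin 4) → F)), τ (uniEl hS a b) v (fun _ => 3) = v fun _ => 3 := by
    intro a b v
    rw [tens_apply, Finset.sum_eq_single fun _ => 3]
    · simp [uniEl_val, uni_val, uniMat]
    · intro f _ hf
      obtain ⟨j, hj⟩ := Function.ne_iff.1 hf
      rw [Finset.prod_eq_zero (Finset.mem_univ j), zero_mul]
      generalize f j = y at hj
      fin_cases y <;> simp_all [uniEl_val, uni_val, uniMat]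
    · simp
  have hΦu : ∀ a b z, Φ (π (uniEl hS a b) z) = Φ z := by
    intro a b z
    simp [Φ, hπ, hφ, hτ3]
  have hne30 : (fun _ : J => (3 : Fin 4)) ≠ fun _ => 0 := fun h => by
    simpa using congrFun h (Classical.arbitrary _)
  have hΦ0 : Φ x₀ = 0 := by simp [Φ, x₀, hφc, tVec, hne30]
  have hΦw : Φ (π (weylEl hS) x₀) = 0 := by
    simp only [Φ, hπ, x₀, τ, tens_weyl_tVec]
    simp [dVec, hκdef]
  have hpu : ∀ a b, π (uniEl hS a b) x₀ = x₀ := fun a b => by
    rw [hπ]; exact Prod.ext (hcC a b) (tens_uni_tVec hS e a b)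
  have hpt : ∀ μ : Fˣ, π (torSz hS μ) x₀ = ((μ : F) ^ (2 ^ m + 1)) ^ k • x₀ := fun μ => by
    rw [hπ]; exact Prod.ext (heig μ) (heigt μ)
  have hXker : ∀ z ∈ X, Φ z = 0 := by
    intro z hz
    refine (Submodule.span_le (p := LinearMap.ker Φ)).2 ?_ hz
    rintro _ ⟨g, rfl⟩
    show Φ (π g x₀) = 0
    have hm : ∀ g h, π (g * h) x₀ = π g (π h x₀) := fun g h => by rw [map_mul]; rfl
    rcases bruhat hS g with ⟨a, b, μ, rfl⟩ | ⟨x, y, a, b, μ, rfl⟩
    · rw [hm, hpt, map_smul, map_smul, hΦu, hΦ0, smul_zero]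
    · rw [hm, hm, hpt, map_smul, hpu, map_smul, map_smul, map_mul, Module.End.mul_apply, hΦu, hΦw,
        smul_zero]
  have hκ : κ ≠ 0 := by
    intro h0
    refine hφ0 (LinearMap.ext fun v => ?_)
    have htop : X.map (LinearMap.fst F V ((J → Fin 4) → F)) = ⊤ := by
      refine hirr _ ?_ ?_
      · rintro g _ ⟨z, hz, rfl⟩
        exact ⟨_, hXinv g z hz, rfl⟩
      · exact fun h => hc0 ((Submodule.mem_bot F).1 (h ▸ ⟨x₀, hx₀, rfl⟩))
    obtain ⟨z, hz, rfl⟩ := (htop ▸ Submodule.mem_top : v ∈ X.map (LinearMap.fst F V ((J → Fin 4) → F)))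
    have := hXker z hz
    simpa [Φ, h0] using this
  have hinj1 : ∀ z ∈ X, z.1 = 0 → z = 0 := by
    intro z hz h1
    by_contra hne
    have htop : X.comap (LinearMap.inr F V ((J → Fin 4) → F)) = ⊤ := by
      refine eq_top_of_invariant hS he ?_ ?_
      · intro g v hv
        have := hXinv g _ hv
        simpa [hπ] using this
      · intro h
        have hz2 : z.2 ∈ X.comap (LinearMap.inr F V ((J → Fin 4) → F)) := by
          show ((0, z.2) : V × ((J → Fin 4) → F)) ∈ X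
          rwa [← h1]
        exact hne (Prod.ext h1 ((Submodule.mem_bot F).1 (h ▸ hz2)))
    have := hXker (0, dVec F _) (htop ▸ Submodule.mem_top : dVec F _ ∈ X.comap (LinearMap.inr F V ((J → Fin 4) → F)))
    simp [Φ, dVec, hκ] at this
  have hinj2 : ∀ z ∈ X, z.2 = 0 → z = 0 := by
    intro z hz h2
    by_contra hne
    have htop : X.comap (LinearMap.inl F V ((J → Fin 4) → F)) = ⊤ := by
      refine hirr _ ?_ ?_
      · intro g v hv
        have := hXinv g _ hv
        simpa [hπ] using this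
      · intro h
        have hz1 : z.1 ∈ X.comap (LinearMap.inl F V ((J → Fin 4) → F)) := by
          show ((z.1, 0) : V × ((J → Fin 4) → F)) ∈ X
          rwa [← h2]
        exact hne (Prod.ext ((Submodule.mem_bot F).1 (h ▸ hz1)) h2)
    have := hXker (ρ (weylEl hS) c, 0)
      (htop ▸ Submodule.mem_top : ρ (weylEl hS) c ∈ X.comap (LinearMap.inl F V ((J → Fin 4) → F)))
    simp [Φ, ← hκdef, hκ] at this
  have hsur1 : X.map (LinearMap.fst F V ((J → Fin 4) → F)) = ⊤ := by
    refine hirr _ ?_ ?_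
    · rintro g _ ⟨z, hz, rfl⟩
      exact ⟨_, hXinv g z hz, rfl⟩
    · exact fun h => hc0 ((Submodule.mem_bot F).1 (h ▸ ⟨x₀, hx₀, rfl⟩))
  have hsur2 : X.map (LinearMap.snd F V ((J → Fin 4) → F)) = ⊤ := by
    refine eq_top_of_invariant hS he ?_ ?_
    · rintro g _ ⟨z, hz, rfl⟩
      exact ⟨_, hXinv g z hz, rfl⟩
    · intro h
      have : (tVec F _ : ((J → Fin 4) → F)) = 0 := (Submodule.mem_bot F).1 (h ▸ ⟨x₀, hx₀, rfl⟩)
      simpa [tVec] using congrFun this fun _ => 0
  let p1 : X ≃ₗ[F] V := LinearEquiv.ofBijective ((LinearMap.fst F V ((J → Fin 4) → F)).comp X.subtype)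
    ⟨LinearMap.ker_eq_bot.1 ((LinearMap.ker_eq_bot').2 fun z hz => Subtype.ext (hinj1 z z.2 hz)),
     fun v => by
      obtain ⟨z, hz, rfl⟩ := (hsur1 ▸ Submodule.mem_top : v ∈ X.map (LinearMap.fst F V ((J → Fin 4) → F)))
      exact ⟨⟨z, hz⟩, rfl⟩⟩
  let p2 : X ≃ₗ[F] ((J → Fin 4) → F) := LinearEquiv.ofBijective ((LinearMap.snd F V ((J → Fin 4) → F)).comp X.subtype)
    ⟨LinearMap.ker_eq_bot.1 ((LinearMap.ker_eq_bot').2 fun z hz => Subtype.ext (hinj2 z z.2 hz)),
     fun v => by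
      obtain ⟨z, hz, rfl⟩ := (hsur2 ▸ Submodule.mem_top : v ∈ X.map (LinearMap.snd F V ((J → Fin 4) → F)))
      exact ⟨⟨z, hz⟩, rfl⟩⟩
  let L : ((J → Fin 4) → F) ≃ₗ[F] V := p2.symm.trans p1
  have hL : ∀ g v, L (τ g v) = ρ g (L v) := by
    intro g v
    obtain ⟨z, rfl⟩ := p2.surjective v
    have e2 : τ g (p2 z) = p2 ⟨π g z, hXinv g z z.2⟩ := rfl
    rw [e2]
    simp only [L, LinearEquiv.trans_apply, LinearEquiv.symm_apply_apply]
    rfl
  exact ⟨L, hL⟩

/-- An irreducible module with odd elements fixed point free is a twist of the natural module. -/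
theorem exists_equiv_nat [Nontrivial V] (hfix : OddFix ρ)
    (hirr : ∀ X : Submodule F V, (∀ g, ∀ v ∈ X, ρ g v ∈ X) → X ≠ ⊥ → X = ⊤) :
    ∃ (i : Fin (2 * m + 1)) (L : ((Fin 1 → Fin 4) → F) ≃ₗ[F] V),
      ∀ g v, L (nat hS i g v) = ρ g (L v) := by
  obtain ⟨c, k, hc0, hk0, hklt, hcC, heig⟩ := exists_torus_eigen hS hfix
  obtain ⟨I, hI⟩ := exists_sum_two_pow hklt
  -- the module is the tensor product of the twists in `I`
  let e : Fin I.card → Fin (2 * m + 1) := I.orderEmbOfFin rfl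
  have he : Function.Injective e := (I.orderEmbOfFin rfl).injective
  have hsum : ∑ j, 2 ^ (e j : ℕ) = k := by
    rw [hI]
    conv_rhs => rw [← Finset.map_orderEmbOfFin_univ I rfl, Finset.sum_map]
    rfl
  have hcard0 : I.card ≠ 0 := fun h => hk0 (by
    rw [hI, Finset.card_eq_zero.1 h, Finset.sum_empty])
  haveI : Nonempty (Fin I.card) := ⟨⟨0, Nat.pos_of_ne_zero hcard0⟩⟩
  obtain ⟨L, hL⟩ := exists_equiv_of_eigen hS he hfix hirr hc0 hcC heig hsum
  have hcard1 : I.card = 1 := by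
    by_contra hne
    have h2 : 1 < I.card := by omega
    refine tens_not_oddFix (e := e) hS (j₀ := (⟨0, by omega⟩ : Fin I.card)) (j₁ := ⟨1, h2⟩)
      (by simp [Fin.ext_iff]) fun g v ho h1 h => ?_
    have := hfix g (L v) ho h1 (by rw [← hL, h])
    exact L.map_eq_zero_iff.1 this
  have fin_one : ∀ (j : ℕ) (e : Fin j → Fin (2 * m + 1)), j = 1 →
      ∀ L : ((Fin j → Fin 4) → F) ≃ₗ[F] V, (∀ g v, L (tens hS e g v) = ρ g (L v)) →
      ∃ (i : Fin (2 * m + 1)) (L : ((Fin 1 → Fin 4) → F) ≃ₗ[F] V),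
        ∀ g v, L (nat hS i g v) = ρ g (L v) := by
    rintro j e rfl L hL
    refine ⟨e 0, L, ?_⟩
    rw [show nat hS (e 0) = tens hS e from congrArg (tens hS) (funext fun x => by
      rw [Subsingleton.elim x 0])]
    exact hL
  exact fin_one _ e hcard1 L hL

end

end CfsgLib.SuzukiModule
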