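import Cfsg.Agent.Suzuki.Gens

/-!
# Twisted products of column entries of the Suzuki unipotent group

The products of Frobenius twists of the entries of the last column of `uniMat a b`, one entry for
each of the `2m+1` twists, form a basis of the space of functions `F × F → F`.
-/

set_option autoImplicit false
set_option linter.style.haveILetI false
set_option linter.unusedSectionVars false

namespace CfsgLib.SuzukiModule

open CfsgLib.Suzuki

variable {F : Type*} [Field F] [Fintype F] {m : ℕ}

/-- The entry in row `r` of the last column of `uniMat a b`. -/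
def col (m : ℕ) (r : Fin 4) (p : F × F) : F := uniMat m p.1 p.2 r 3

@[simp] theorem col_zero (p : F × F) : col m 0 p = szF m p.1 p.2 := by simp [col, uniMat]

@[simp] theorem col_one (p : F × F) : col m 1 p = p.2 := by simp [col, uniMat]

@[simp] theorem col_two (p : F × F) : col m 2 p = p.1 := by simp [col, uniMat]

@[simp] theorem col_three (p : F × F) : col m 3 p = 1 := by simp [col, uniMat]

/-- A residue modulo `2m+1`. -/
def cyc (m k : ℕ) : Fin (2 * m + 1) := ⟨k % (2 * m + 1), Nat.mod_lt _ (by omega)⟩

theorem pow_two_pow_cyc (hS : SzField F m) (x : F) (k : ℕ) :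
    x ^ (2 ^ (cyc m k : ℕ)) = x ^ (2 ^ k) := by
  show x ^ (2 ^ (k % (2 * m + 1))) = x ^ (2 ^ k)
  conv_rhs => rw [← Nat.div_add_mod k (2 * m + 1), pow_add, pow_mul 2, ← hS.card_eq, pow_mul,
    FiniteField.pow_card_pow]

/-- The monomial with digits `α`, `β`. -/
def mon (α β : Fin (2 * m + 1) → ℕ) : F × F → F :=
  fun p => ∏ i, (p.1 ^ α i * p.2 ^ β i) ^ (2 ^ (i : ℕ))

/-- The weight of a monomial. -/
def wt (α β : Fin (2 * m + 1) → ℕ) : ℕ := ∑ i, (α i + 2 * β i)

theorem mon_mul (α β α' β' : Fin (2 * m + 1) → ℕ) :
    mon (F := F) α β * mon α' β' = mon (α + α') (β + β') := by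
  funext p
  simp only [Pi.mul_apply, mon, ← Finset.prod_mul_distrib, Pi.add_apply]
  refine Finset.prod_congr rfl fun i _ => ?_
  rw [← mul_pow, pow_add, pow_add]
  ring

theorem wt_add (α β α' β' : Fin (2 * m + 1) → ℕ) :
    wt (α + α') (β + β') = wt α β + wt α' β' := by
  simp only [wt, ← Finset.sum_add_distrib, Pi.add_apply]
  exact Finset.sum_congr rfl fun i _ => by ring

theorem mon_single (i : Fin (2 * m + 1)) (x y : ℕ) :
    mon (Pi.single i x) (Pi.single i y) = fun p : F × F => (p.1 ^ x * p.2 ^ y) ^ (2 ^ (i : ℕ)) := by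
  funext p
  rw [mon, Finset.prod_eq_single i]
  · simp
  · intro j _ hj; simp [hj]
  · simp

theorem wt_single (i : Fin (2 * m + 1)) (x y : ℕ) :
    wt (Pi.single i x) (Pi.single i y) = x + 2 * y := by
  rw [wt, Finset.sum_eq_single i]
  · simp
  · intro j _ hj; simp [hj]
  · simp

variable (F m) in
/-- The span of the monomials of weight less than `k`. -/
def low (k : ℕ) : Submodule F (F × F → F) :=
  Submodule.span F {g | ∃ α β : Fin (2 * m + 1) → ℕ, wt α β < k ∧ g = mon α β}

theorem mon_mem_low {α β : Fin (2 * m + 1) → ℕ} {k : ℕ} (h : wt α β < k) :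
    mon α β ∈ low F m k := Submodule.subset_span ⟨α, β, h, rfl⟩

theorem mul_mem_low {g h : F × F → F} {k l : ℕ} (hg : g ∈ low F m k) (hh : h ∈ low F m l) :
    g * h ∈ low F m (k + l - 1) := by
  have := Submodule.mul_mem_mul hg hh
  rw [low, low, Submodule.span_mul_span] at this
  refine Submodule.span_mono ?_ this
  rintro _ ⟨_, ⟨α, β, h1, rfl⟩, _, ⟨α', β', h2, rfl⟩, rfl⟩
  exact ⟨α + α', β + β', by rw [wt_add]; omega, mon_mul _ _ _ _⟩

theorem low_mono {k l : ℕ} (h : k ≤ l) : low F m k ≤ low F m l :=
  Submodule.span_mono fun _ ⟨α, β, h1, e⟩ => ⟨α, β, by omega, e⟩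

/-- The twisted product of column entries. -/
def fam (m : ℕ) (f : Fin (2 * m + 1) → Fin 4) : F × F → F :=
  fun p => ∏ i, col m (f i) p ^ (2 ^ (i : ℕ))

/-- The digit pair of an entry. -/
def digA : Fin 4 → ℕ := ![1, 0, 1, 0]

/-- The digit pair of an entry. -/
def digB : Fin 4 → ℕ := ![1, 1, 0, 0]

/-- The weight of an entry. -/
def digW (r : Fin 4) : ℕ := digA r + 2 * digB r

theorem col_pow_sub_mem (hS : SzField F m) (i : Fin (2 * m + 1)) (r : Fin 4) :
    (fun p : F × F => col m r p ^ (2 ^ (i : ℕ))) - mon (Pi.single i (digA r)) (Pi.single i (digB r)) ∈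
      low F m (digW r) := by
  by_cases h0 : r = 0
  · subst h0
    have := hS.charP
    haveI : Fact (Nat.Prime 2) := ⟨Nat.prime_two⟩
    have e : (fun p : F × F => col m 0 p ^ (2 ^ (i : ℕ))) -
        mon (Pi.single i (digA 0)) (Pi.single i (digB 0)) =
        mon (Pi.single (cyc m (i + 1)) 1) (Pi.single (cyc m (i + 1)) 0) *
            mon (Pi.single (cyc m (m + 1 + i)) 1) (Pi.single (cyc m (m + 1 + i)) 0) +
          mon (Pi.single (cyc m (m + 1 + i)) 0) (Pi.single (cyc m (m + 1 + i)) 1) := by
      simp only [mon_single]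
      funext p
      simp only [Pi.sub_apply, Pi.add_apply, Pi.mul_apply, col_zero, szF, θ, digA, digB,
        Matrix.cons_val_zero, pow_one, pow_zero, mul_one, one_mul, pow_two_pow_cyc hS,
        add_pow_char_pow, mul_pow, ← pow_mul, ← pow_add]
      ring_nf
    rw [e]
    refine add_mem ?_ (mon_mem_low ?_)
    · rw [mon_mul]
      refine mon_mem_low ?_
      rw [wt_add, wt_single, wt_single]
      simp [digW, digA, digB]
    · rw [wt_single]
      simp [digW, digA, digB]
  · convert Submodule.zero_mem _
    rw [sub_eq_zero, mon_single]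
    funext p
    fin_cases r <;> simp_all [digA, digB]

theorem prod_col_sub_mem (hS : SzField F m) (f : Fin (2 * m + 1) → Fin 4)
    (s : Finset (Fin (2 * m + 1))) :
    ∃ α β : Fin (2 * m + 1) → ℕ, wt α β = ∑ i ∈ s, digW (f i) ∧
      (∏ i ∈ s, mon (F := F) (Pi.single i (digA (f i))) (Pi.single i (digB (f i)))) = mon α β ∧
      (∏ i ∈ s, fun p : F × F => col m (f i) p ^ (2 ^ (i : ℕ))) - mon α β ∈
        low F m (∑ i ∈ s, digW (f i)) := by
  classical
  induction s using Finset.induction_on with
  | empty => exact ⟨0, 0, by simp [wt], by funext p; simp [mon], by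
      convert Submodule.zero_mem _; funext p; simp [mon]⟩
  | @insert i s hi ih =>
    obtain ⟨α, β, hw, he, hd⟩ := ih
    refine ⟨Pi.single i (digA (f i)) + α, Pi.single i (digB (f i)) + β, ?_, ?_, ?_⟩
    · rw [wt_add, wt_single, hw, Finset.sum_insert hi, digW]
    · rw [Finset.prod_insert hi, he, mon_mul]
    · rw [Finset.prod_insert hi, Finset.sum_insert hi, ← mon_mul]
      set T : F × F → F := fun p => col m (f i) p ^ (2 ^ (i : ℕ))
      set P := ∏ j ∈ s, fun p : F × F => col m (f j) p ^ (2 ^ (j : ℕ))
      set A : F × F → F := mon (Pi.single i (digA (f i))) (Pi.single i (digB (f i)))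
      set B : F × F → F := mon α β
      have h1 : T - A ∈ low F m (digW (f i)) := col_pow_sub_mem hS i (f i)
      have hA : A ∈ low F m (digW (f i) + 1) := mon_mem_low (by rw [wt_single, digW]; omega)
      have hB : B ∈ low F m (∑ j ∈ s, digW (f j) + 1) := mon_mem_low (by omega)
      have e : T * P - A * B = (T - A) * B + A * (P - B) + (T - A) * (P - B) := by ring
      rw [e]
      refine add_mem (add_mem (low_mono ?_ (mul_mem_low h1 hB)) (low_mono ?_ (mul_mem_low hA hd)))
        (low_mono ?_ (mul_mem_low h1 hd)) <;> omega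

theorem mon_mem_span (hS : SzField F m) :
    ∀ (k : ℕ) (α β : Fin (2 * m + 1) → ℕ), wt α β = k →
      mon α β ∈ Submodule.span F (Set.range (fam (F := F) m)) := by
  classical
  intro k
  induction k using Nat.strong_induction_on with
  | _ k ih =>
    intro α β hk
    have hlow : low F m k ≤ Submodule.span F (Set.range (fam (F := F) m)) := by
      refine Submodule.span_le.2 ?_
      rintro _ ⟨α', β', h, rfl⟩
      exact ih _ h α' β' rfl
    rcases em (∃ i, 2 ≤ α i) with ⟨i, hi⟩ | hα
    · have eα : α = Function.update α i (α i - 2) + Pi.single i 2 := by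
        funext j
        rcases eq_or_ne j i with rfl | hj
        · simp; omega
        · simp [hj]
      apply hlow
      have e : mon (F := F) α β = mon (Function.update α i (α i - 2) + Pi.single (cyc m (i + 1)) 1)
          (β + Pi.single (cyc m (i + 1)) 0) := by
        conv_lhs => rw [eα, ← add_zero β, ← Pi.single_zero (M := fun _ => ℕ) i, ← mon_mul, mon_single]
        rw [← mon_mul, mon_single]
        funext p
        simp [pow_two_pow_cyc hS, ← pow_mul, pow_succ' 2 (i : ℕ)]
      rw [e]
      refine mon_mem_low ?_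
      have hw : wt α β = wt (Function.update α i (α i - 2)) β + 2 := by
        conv_lhs => rw [eα, ← add_zero β, ← Pi.single_zero (M := fun _ => ℕ) i, wt_add, wt_single]
        simp
      rw [wt_add, wt_single]
      omega
    rcases em (∃ i, 2 ≤ β i) with ⟨i, hi⟩ | hβ
    · have eβ : β = Function.update β i (β i - 2) + Pi.single i 2 := by
        funext j
        rcases eq_or_ne j i with rfl | hj
        · simp; omega
        · simp [hj]
      apply hlow
      have e : mon (F := F) α β = mon (α + Pi.single (cyc m (i + 1)) 0)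
          (Function.update β i (β i - 2) + Pi.single (cyc m (i + 1)) 1) := by
        conv_lhs => rw [eβ, ← add_zero α, ← Pi.single_zero (M := fun _ => ℕ) i, ← mon_mul, mon_single]
        rw [← mon_mul, mon_single]
        funext p
        simp [pow_two_pow_cyc hS, ← pow_mul, pow_succ' 2 (i : ℕ)]
      rw [e]
      refine mon_mem_low ?_
      have hw : wt α β = wt α (Function.update β i (β i - 2)) + 4 := by
        conv_lhs => rw [eβ, ← add_zero α, ← Pi.single_zero (M := fun _ => ℕ) i, wt_add, wt_single]
      rw [wt_add, wt_single]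
      omega
    push Not at hα hβ
    let f : Fin (2 * m + 1) → Fin 4 := fun i =>
      if α i = 0 then (if β i = 0 then 3 else 1) else (if β i = 0 then 2 else 0)
    have hA : ∀ i, digA (f i) = α i := fun i => by
      have := hα i; have := hβ i
      simp only [f]; split_ifs <;> simp [digA] <;> omega
    have hB : ∀ i, digB (f i) = β i := fun i => by
      have := hα i; have := hβ i
      simp only [f]; split_ifs <;> simp [digB] <;> omega
    obtain ⟨α', β', hw, he, hd⟩ := prod_col_sub_mem (F := F) hS f Finset.univ
    have e1 : mon (F := F) α' β' = mon α β := by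
      rw [← he]
      funext p
      rw [Finset.prod_apply]
      simp only [mon_single, hA, hB]
      rfl
    have hk' : ∑ i, digW (f i) = k := by
      rw [← hk, wt]; exact Finset.sum_congr rfl fun i _ => by rw [digW, hA, hB]
    rw [hk', e1] at hd
    have e2 : (∏ i, fun p : F × F => col m (f i) p ^ (2 ^ (i : ℕ))) = fam m f := by
      funext p; rw [Finset.prod_apply]; rfl
    rw [e2] at hd
    have := sub_mem (Submodule.subset_span (R := F) (Set.mem_range_self (f := fam (F := F) m) f)) (hlow hd)
    simpa using this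

theorem span_fam (hS : SzField F m) : Submodule.span F (Set.range (fam (F := F) m)) = ⊤ := by
  classical
  set W := Submodule.span F (Set.range (fam (F := F) m))
  let X : F × F → F := Prod.fst
  let Y : F × F → F := Prod.snd
  have hA : ∀ g ∈ Algebra.adjoin F ({X, Y} : Set (F × F → F)), g ∈ W := by
    intro g hg
    rw [← Subalgebra.mem_toSubmodule, Algebra.adjoin_eq_span] at hg
    refine (Submodule.span_le.2 ?_) hg
    intro h hh
    obtain ⟨i, j, rfl⟩ : ∃ i j : ℕ, h = fun p => p.1 ^ i * p.2 ^ j := by
      induction hh using Submonoid.closure_induction with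
      | mem x hx =>
        rcases hx with rfl | rfl
        · exact ⟨1, 0, by funext p; simp [X]⟩
        · exact ⟨0, 1, by funext p; simp [Y]⟩
      | one => exact ⟨0, 0, by funext p; simp⟩
      | mul x y _ _ h1 h2 =>
        obtain ⟨i, j, rfl⟩ := h1
        obtain ⟨k, l, rfl⟩ := h2
        exact ⟨i + k, j + l, by funext p; simp [pow_add]; ring⟩
    have := mon_mem_span (F := F) hS _ (Pi.single (cyc m 0) i) (Pi.single (cyc m 0) j) rfl
    rw [mon_single] at this
    simpa [cyc] using this
  refine eq_top_iff.2 fun g _ => ?_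
  have : g = ∑ u : F × F, g u • ((1 - (X - algebraMap F _ u.1) ^ (Fintype.card F - 1)) *
      (1 - (Y - algebraMap F _ u.2) ^ (Fintype.card F - 1))) := by
    funext p
    have hne : Fintype.card F - 1 ≠ 0 := by have := hS.eight_le; omega
    rw [Finset.sum_apply, Finset.sum_eq_single p]
    · simp [X, Y, zero_pow hne]
    · intro u _ hu
      rcases eq_or_ne p.1 u.1 with h1 | h1
      · have h2 : p.2 - u.2 ≠ 0 := sub_ne_zero.2 fun h2 => hu (Prod.ext h1 h2).symm
        simp [X, Y, FiniteField.pow_card_sub_one_eq_one _ h2]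
      · simp [X, Y, FiniteField.pow_card_sub_one_eq_one _ (sub_ne_zero.2 h1)]
    · simp
  rw [this]
  have hX : X ∈ Algebra.adjoin F ({X, Y} : Set (F × F → F)) := Algebra.subset_adjoin (by simp)
  have hY : Y ∈ Algebra.adjoin F ({X, Y} : Set (F × F → F)) := Algebra.subset_adjoin (by simp)
  exact sum_mem fun u _ => W.smul_mem _ (hA _ (mul_mem
    (sub_mem (one_mem _) (pow_mem (sub_mem hX (Subalgebra.algebraMap_mem _ _)) _))
    (sub_mem (one_mem _) (pow_mem (sub_mem hY (Subalgebra.algebraMap_mem _ _)) _))))

theorem linearIndependent_fam (hS : SzField F m) : LinearIndependent F (fam (F := F) m) := by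
  refine linearIndependent_of_top_le_span_of_card_eq_finrank (span_fam hS).ge ?_
  rw [Module.finrank_pi, Fintype.card_fun, Fintype.card_prod, hS.card_eq, Fintype.card_fin,
    Fintype.card_fin, ← pow_add, show (4 : ℕ) = 2 ^ 2 from rfl, ← pow_mul]
  ring_nf

theorem linearIndependent_prod_col (hS : SzField F m) {J : Type*} [Fintype J]
    {e : J → Fin (2 * m + 1)} (he : Function.Injective e) :
    LinearIndependent F (fun (f : J → Fin 4) (p : F × F) =>
      ∏ j, col m (f j) p ^ (2 ^ (e j : ℕ))) := by
  have key : (fun (f : J → Fin 4) (p : F × F) => ∏ j, col m (f j) p ^ (2 ^ (e j : ℕ))) =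
      fun f => fam m (Function.extend e f fun _ => 3) := by
    funext f p
    refine Fintype.prod_of_injective e he _ _ (fun i hi => ?_) fun j => ?_
    · rw [Function.extend_apply' _ _ _ (fun ⟨a, ha⟩ => hi ⟨a, ha⟩)]; simp
    · rw [he.extend_apply]
  rw [key]
  refine (linearIndependent_fam hS).comp _ fun f g h => ?_
  funext j
  simpa [he.extend_apply] using congrFun h (e j)

end CfsgLib.SuzukiModule
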