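import Cfsg.Agent.SuzukiModule.Span
import Cfsg.Agent.Suzuki.Borel

/-!
# Tensor products of Frobenius twists of the natural module of the Suzuki group
-/

set_option autoImplicit false
set_option linter.style.haveILetI false
set_option linter.unusedSectionVars false

namespace CfsgLib.SuzukiModule

open CfsgLib.Suzuki

variable {F : Type*} [Field F] [Fintype F] {m : ℕ}

local notation "SL4" F:max => Matrix.SpecialLinearGroup (Fin 4) F

/-- A representation in which the nontrivial elements of odd order fix only zero. -/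
def OddFix {R G V : Type*} [CommRing R] [Group G] [AddCommGroup V] [Module R V]
    (ρ : Representation R G V) : Prop :=
  ∀ (g : G) (v : V), Odd (orderOf g) → g ≠ 1 → ρ g v = v → v = 0

/-- A two-group fixes a nonzero vector of a nonzero invariant subspace, in characteristic two. -/
theorem exists_fixed_ne_zero {R G V : Type*} [CommRing R] [Group G] [AddCommGroup V] [Module R V]
    [Finite V] (h2 : ∀ v : V, v + v = 0) (ρ : Representation R G V) {P : Subgroup G}
    (hP : IsPGroup 2 P) {X : Submodule R V} (hinv : ∀ g, ∀ v ∈ X, ρ g v ∈ X) (hX : X ≠ ⊥) :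
    ∃ v ∈ X, v ≠ 0 ∧ ∀ g ∈ P, ρ g v = v := by
  haveI : Fact (Nat.Prime 2) := ⟨Nat.prime_two⟩
  letI : MulAction P X :=
    { smul := fun g v => ⟨ρ g v, hinv g v v.2⟩
      one_smul := fun v => Subtype.ext (by show ρ ((1 : P) : G) v = v; simp)
      mul_smul := fun g h v => Subtype.ext (by
        show ρ ((g * h : P) : G) v = ρ g (ρ h v)
        simp) }
  obtain ⟨v, hv, hv0⟩ := X.exists_mem_ne_zero_of_ne_bot hX
  have hd : 2 ∣ Nat.card X := by
    have ho : addOrderOf (⟨v, hv⟩ : X) = 2 := by
      refine addOrderOf_eq_prime ?_ (fun e => hv0 (congrArg Subtype.val e))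
      exact Subtype.ext (by rw [two_nsmul]; exact h2 v)
    exact ho ▸ addOrderOf_dvd_natCard _
  obtain ⟨w, hw, hw0⟩ := hP.exists_fixed_point_of_prime_dvd_card_of_fixed_point X hd
    (a := 0) (fun g => Subtype.ext (map_zero (ρ g)))
  exact ⟨w, w.2, fun e => hw0 (Subtype.ext e.symm), fun g hg => congrArg Subtype.val (hw ⟨g, hg⟩)⟩

variable {J : Type*} [Fintype J] [DecidableEq J]

/-- The matrix of a tensor product of twists. -/
def tensMat {R : Type*} [CommSemiring R] (e : J → Fin (2 * m + 1))
    (M : Matrix (Fin 4) (Fin 4) R) : Matrix (J → Fin 4) (J → Fin 4) R :=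
  Matrix.of fun f f' => ∏ j, M (f j) (f' j) ^ (2 ^ (e j : ℕ))

theorem tensMat_one (e : J → Fin (2 * m + 1)) :
    tensMat e (1 : Matrix (Fin 4) (Fin 4) F) = 1 := by
  ext f f'
  rcases eq_or_ne f f' with rfl | h
  · simp [tensMat]
  · rw [Matrix.one_apply_ne h]
    obtain ⟨j, hj⟩ := Function.ne_iff.1 h
    exact Finset.prod_eq_zero (Finset.mem_univ j) (by simp [hj])

theorem tensMat_mul (hS : SzField F m) (e : J → Fin (2 * m + 1))
    (M N : Matrix (Fin 4) (Fin 4) F) : tensMat e (M * N) = tensMat e M * tensMat e N := by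
  have := hS.charP
  haveI : Fact (Nat.Prime 2) := ⟨Nat.prime_two⟩
  ext f f'
  simp only [tensMat, Matrix.mul_apply, Matrix.of_apply, sum_pow_char_pow, mul_pow]
  rw [Fintype.prod_sum]
  exact Finset.sum_congr rfl fun g _ => Finset.prod_mul_distrib

/-- The tensor product of the twists given by `e` of the natural module. -/
def tens (hS : SzField F m) (e : J → Fin (2 * m + 1)) :
    Representation F (Cfsg.Sz F m) ((J → Fin 4) → F) where
  toFun g := Matrix.toLin' (tensMat e ((g : SL4 F) : Matrix (Fin 4) (Fin 4) F))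
  map_one' := by simp [tensMat_one]; rfl
  map_mul' g h := by
    simp only [Subgroup.coe_mul, Matrix.SpecialLinearGroup.coe_mul, tensMat_mul hS,
      Matrix.toLin'_mul]
    rfl

theorem tens_apply (hS : SzField F m) (e : J → Fin (2 * m + 1)) (g : Cfsg.Sz F m)
    (v : (J → Fin 4) → F) (f : J → Fin 4) :
    tens hS e g v f =
      ∑ f', (∏ j, ((g : SL4 F) : Matrix (Fin 4) (Fin 4) F) (f j) (f' j) ^ (2 ^ (e j : ℕ))) * v f' :=
  rfl

variable (F J) in
/-- The vector fixed by the unipotent group. -/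
def tVec : (J → Fin 4) → F := Pi.single (fun _ => 0) 1

variable (F J) in
/-- The opposite vector. -/
def dVec : (J → Fin 4) → F := Pi.single (fun _ => 3) 1

theorem tens_single (hS : SzField F m) (e : J → Fin (2 * m + 1)) (g : Cfsg.Sz F m)
    (f f' : J → Fin 4) :
    tens hS e g (Pi.single f' 1) f =
      ∏ j, ((g : SL4 F) : Matrix (Fin 4) (Fin 4) F) (f j) (f' j) ^ (2 ^ (e j : ℕ)) := by
  rw [tens_apply, Finset.sum_eq_single f']
  · simp
  · intro h _ hh; simp [hh]
  · simp

theorem tens_single_eq (hS : SzField F m) (e : J → Fin (2 * m + 1)) (g : Cfsg.Sz F m) (r s : Fin 4)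
    (c : F) (h : ∀ k, ((g : SL4 F) : Matrix (Fin 4) (Fin 4) F) k r = if k = s then c else 0) :
    tens hS e g (Pi.single (fun _ => r) 1) =
      (∏ j, c ^ (2 ^ (e j : ℕ))) • Pi.single (fun _ => s) 1 := by
  funext f
  rw [tens_single]
  simp only [h]
  rcases eq_or_ne f (fun _ => s) with rfl | hf
  · simp
  · obtain ⟨j, hj⟩ := Function.ne_iff.1 hf
    rw [Finset.prod_eq_zero (Finset.mem_univ j) (by simp [hj])]
    simp [hf]

theorem tens_uni_tVec (hS : SzField F m) (e : J → Fin (2 * m + 1)) (a b : F) :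
    tens hS e (uniEl hS a b) (tVec F J) = tVec F J := by
  rw [tVec, tens_single_eq hS e _ 0 0 1 fun k => by
    fin_cases k <;> simp [uniEl_val, uni_val, uniMat]]
  simp

theorem tens_weyl_tVec (hS : SzField F m) (e : J → Fin (2 * m + 1)) :
    tens hS e (weylEl hS) (tVec F J) = dVec F J := by
  rw [tVec, tens_single_eq hS e _ 0 3 1 fun k => by
    fin_cases k <;> simp [weylEl, weyl_val, weylMat]]
  simp [dVec]

theorem tens_weyl_dVec (hS : SzField F m) (e : J → Fin (2 * m + 1)) :
    tens hS e (weylEl hS) (dVec F J) = tVec F J := by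
  rw [dVec, tens_single_eq hS e _ 3 0 1 fun k => by
    fin_cases k <;> simp [weylEl, weyl_val, weylMat]]
  simp [tVec]

theorem tens_tor_tVec (hS : SzField F m) (e : J → Fin (2 * m + 1)) (μ : Fˣ) :
    tens hS e (torSz hS μ) (tVec F J) =
      (∏ j, ((μ : F) ^ (2 ^ m + 1)) ^ (2 ^ (e j : ℕ))) • tVec F J := by
  rw [tVec, tens_single_eq hS e _ 0 0 ((μ : F) ^ (2 ^ m + 1)) fun k => by
    fin_cases k <;> simp [torSz_val, tor_val, torMat]]

theorem tens_uni_dVec (hS : SzField F m) (e : J → Fin (2 * m + 1)) (a b : F) (f : J → Fin 4) :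
    tens hS e (uniEl hS a b) (dVec F J) f = ∏ j, col m (f j) (a, b) ^ (2 ^ (e j : ℕ)) := by
  rw [dVec, tens_single]
  rfl

variable {e : J → Fin (2 * m + 1)}

theorem span_uni_dVec (hS : SzField F m) (he : Function.Injective e) :
    Submodule.span F (Set.range fun p : F × F => tens hS e (uniEl hS p.1 p.2) (dVec F J)) = ⊤ := by
  by_contra hne
  obtain ⟨φ, hφ, hle⟩ := Submodule.exists_le_ker_of_lt_top _ (lt_top_iff_ne_top.2 hne)
  have hli := Fintype.linearIndependent_iff.1 (linearIndependent_prod_col hS he)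
    (fun f => φ (Pi.single f 1))
  refine hφ ?_
  have hc := hli ?_
  · exact LinearMap.pi_ext fun f x => by
      rw [show Pi.single f x = x • (Pi.single f 1 : (J → Fin 4) → F) by simp [← Pi.single_smul],
        map_smul, hc f]
      simp
  funext p
  have h0 : φ (tens hS e (uniEl hS p.1 p.2) (dVec F J)) = 0 :=
    hle (Submodule.subset_span ⟨p, rfl⟩)
  rw [pi_eq_sum_univ' (tens hS e (uniEl hS p.1 p.2) (dVec F J)), map_sum] at h0
  simp only [map_smul, tens_uni_dVec, smul_eq_mul] at h0
  simpa [Finset.sum_apply, mul_comm] using h0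

/-- The invariant form. -/
def form (v w : (J → Fin 4) → F) : F := ∑ f, v f * w fun j => (f j).rev

theorem form_tens_uni (hS : SzField F m) (a b : F) (v w : (J → Fin 4) → F) :
    form (tens hS e (uniEl hS a b) v) (tens hS e (uniEl hS a b) w) = form v w := by
  have := hS.charP
  haveI : Fact (Nat.Prime 2) := ⟨Nat.prime_two⟩
  have key : ∀ r s : Fin 4, ∑ k : Fin 4, uniMat m a b k r * uniMat m a b k.rev s =
      if s = r.rev then 1 else 0 := by
    intro r s
    fin_cases r <;> fin_cases s <;>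
      simp [uniMat, szF, Fin.sum_univ_succ, Fin.rev] <;> ring_nf <;>
      simp [hS.two_eq_zero, hS.four_eq_zero]
  have key' : ∀ h h' : J → Fin 4, (∑ f : J → Fin 4,
      (∏ j, uniMat m a b (f j) (h j) ^ (2 ^ (e j : ℕ))) *
        ∏ j, uniMat m a b (f j).rev (h' j) ^ (2 ^ (e j : ℕ))) =
      if h' = (fun j => (h j).rev) then 1 else 0 := by
    intro h h'
    simp only [← Finset.prod_mul_distrib, ← mul_pow]
    rw [← Fintype.prod_sum (fun j k => (uniMat m a b k (h j) * uniMat m a b k.rev (h' j)) ^ (2 ^ (e j : ℕ)))]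
    simp only [← sum_pow_char_pow, key]
    split_ifs with hh
    · subst hh; simp
    · obtain ⟨j, hj⟩ := Function.ne_iff.1 hh
      exact Finset.prod_eq_zero (Finset.mem_univ j) (by simp [hj])
  simp only [form, tens_apply, Finset.sum_mul, Finset.mul_sum, uniEl_val, uni_val]
  rw [Finset.sum_comm]
  rw [Finset.sum_congr rfl fun h' _ => Finset.sum_comm]
  rw [Finset.sum_comm]
  calc _ = ∑ h : J → Fin 4, ∑ h' : J → Fin 4,
        (if h' = (fun j => (h j).rev) then 1 else 0) * (v h * w h') := by
        refine Finset.sum_congr rfl fun h _ => Finset.sum_congr rfl fun h' _ => ?_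
        rw [← key', Finset.sum_mul]
        exact Finset.sum_congr rfl fun f _ => by ring
    _ = _ := by simp

theorem eq_smul_tVec (hS : SzField F m) (he : Function.Injective e) {v : (J → Fin 4) → F}
    (hv : ∀ a b, tens hS e (uniEl hS a b) v = v) : v = v (fun _ => 0) • tVec F J := by
  let r : (J → Fin 4) → (J → Fin 4) := fun f j => (f j).rev
  have hr : ∀ f, r (r f) = f := fun f => by funext j; simp [r]
  have hli := Fintype.linearIndependent_iff.1 (linearIndependent_prod_col hS he)
    (fun f => v (r f) - if f = (fun _ => 3) then v (fun _ => 0) else 0)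
  have hc := hli ?_
  · funext f
    have := hc (r f)
    rw [hr] at this
    rcases eq_or_ne f (fun _ => 0) with rfl | hf
    · simp [tVec]
    · have hne : r f ≠ fun _ => 3 := fun h => hf (by rw [← hr f, h]; funext j; simp [r])
      rw [if_neg hne, sub_zero] at this
      simp [tVec, this, hf]
  funext p
  have h := form_tens_uni (e := e) hS p.1 p.2 v (dVec F J)
  rw [hv] at h
  have h2 : form v (dVec F J) = v fun _ => 0 := by
    rw [form, Finset.sum_eq_single fun _ => 0]
    · simp [dVec]
    · intro f _ hf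
      have : (fun j => (f j).rev) ≠ fun _ => 3 := fun h => hf (by
        rw [← hr f, show r f = fun _ => 3 from h]; funext j; simp [r])
      simp [dVec, this]
    · simp
  rw [h2, form] at h
  simp only [tens_uni_dVec] at h
  simp only [sub_smul, Finset.sum_sub_distrib, Pi.sub_apply, Finset.sum_apply, Pi.smul_apply,
    smul_eq_mul, Pi.zero_apply, ite_mul, zero_mul, Finset.sum_ite_eq', Finset.mem_univ, if_true,
    col_three, one_pow, Finset.prod_const_one, mul_one]
  rw [sub_eq_zero, ← h]
  exact Fintype.sum_equiv (Function.Involutive.toPerm r hr) _ _ fun f => by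
    show _ = v (r f) * ∏ j, col m (r f j).rev p ^ (2 ^ (e j : ℕ))
    simp [r]

theorem eq_top_of_invariant (hS : SzField F m) (he : Function.Injective e)
    {X : Submodule F ((J → Fin 4) → F)} (hinv : ∀ g, ∀ v ∈ X, tens hS e g v ∈ X) (hX : X ≠ ⊥) :
    X = ⊤ := by
  have := hS.charP
  obtain ⟨v, hv, hv0, hfix⟩ := exists_fixed_ne_zero (fun v => funext fun f => CharTwo.add_self_eq_zero _)
    (tens hS e) (isPGroup_uniSub hS) hinv hX
  have hvt := eq_smul_tVec hS he fun a b => hfix _ (uniEl_mem hS a b)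
  have hc : v (fun _ => 0) ≠ 0 := fun h => hv0 (by rw [hvt, h, zero_smul])
  have ht : tVec F J ∈ X := by
    rw [hvt] at hv
    simpa [hc] using X.smul_mem (v fun _ => 0)⁻¹ hv
  have hd : dVec F J ∈ X := tens_weyl_tVec hS e ▸ hinv _ _ ht
  refine eq_top_iff.2 (span_uni_dVec hS he ▸ Submodule.span_le.2 ?_)
  rintro _ ⟨p, rfl⟩
  exact hinv _ _ hd

/-- The matrix over the prime field of an element of order five. -/
def fiveMat : Matrix (Fin 4) (Fin 4) (ZMod 2) :=
  !![0, 0, 0, 1; 0, 0, 1, 0; 0, 1, 0, 1; 1, 0, 1, 1]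

theorem tens_not_oddFix (hS : SzField F m) {j₀ j₁ : J} (hj : j₁ ≠ j₀) : ¬ OddFix (tens hS e) := by
  intro hfix
  have := hS.charP
  let φ : ZMod 2 →+* F := ZMod.castHom (dvd_refl 2) F
  let x : Cfsg.Sz F m := weylEl hS * uniEl hS 0 1
  have hx : ((x : SL4 F) : Matrix (Fin 4) (Fin 4) F) = φ.mapMatrix fiveMat := by
    ext i k
    fin_cases i <;> fin_cases k <;>
      simp [x, φ, fiveMat, weylEl, weyl_val, weylMat, uniEl_val, uni_val, uniMat, szF,
        Matrix.mul_apply, Fin.sum_univ_succ]
  have hpow : ∀ i : ℕ, (((x ^ i : Cfsg.Sz F m) : SL4 F) : Matrix (Fin 4) (Fin 4) F) =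
      φ.mapMatrix (fiveMat ^ i) := fun i => by
    rw [map_pow, ← hx]; simp
  have h5 : x ^ 5 = 1 := by
    apply Subtype.ext
    apply Subtype.ext
    rw [hpow, show fiveMat ^ 5 = 1 by decide, map_one]
    rfl
  have hx1 : x ≠ 1 := fun h => by
    have := congrFun (congrFun (congrArg (fun g : Cfsg.Sz F m => ((g : SL4 F) : Matrix (Fin 4) (Fin 4) F)) h) 0) 0
    rw [hx] at this
    simp [φ, fiveMat] at this
  let h' : J → Fin 4 := fun j => if j = j₀ then 0 else 3
  let v : (J → Fin 4) → F := ∑ i ∈ Finset.range 5, tens hS e (x ^ i) (Pi.single h' 1)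
  have hv : tens hS e x v = v := by
    have : ∀ i, tens hS e x (tens hS e (x ^ i) (Pi.single h' 1)) =
        tens hS e (x ^ (i + 1)) (Pi.single h' 1) := fun i => by
      show (tens hS e x * tens hS e (x ^ i)) _ = _
      rw [← map_mul, ← pow_succ']
    simp only [v, map_sum, this]
    rw [Finset.sum_range_succ, Finset.sum_range_succ' _ 4, h5, pow_zero]
  have hv0 : v (fun _ => 0) = 1 := by
    simp only [v, Finset.sum_apply, tens_single, hpow, RingHom.mapMatrix_apply, Matrix.map_apply,
      ← map_pow, ← map_prod, ← map_sum]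
    have hp : ∀ i : ℕ, ∏ j, (fiveMat ^ i) 0 (h' j) ^ (2 ^ (e j : ℕ)) =
        (fiveMat ^ i) 0 0 * (fiveMat ^ i) 0 3 := by
      intro i
      have h01 : ∀ y : ZMod 2, y = 0 ∨ y = 1 := by decide
      rcases h01 ((fiveMat ^ i) 0 0) with ha | ha
      · rw [ha, zero_mul, Finset.prod_eq_zero (Finset.mem_univ j₀) (by simp [h', ha])]
      rcases h01 ((fiveMat ^ i) 0 3) with hb | hb
      · rw [hb, mul_zero, Finset.prod_eq_zero (Finset.mem_univ j₁) (by simp [h', hb, hj])]
      rw [ha, hb, one_mul]
      exact Finset.prod_eq_one fun j _ => by simp only [h']; split_ifs <;> simp [ha, hb]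
    simp only [hp]
    rw [show (∑ i ∈ Finset.range 5, (fiveMat ^ i) 0 0 * (fiveMat ^ i) 0 3 : ZMod 2) = 1 by decide,
      map_one]
  haveI : Fact (Nat.Prime 5) := ⟨by norm_num⟩
  have := hfix x v (by rw [orderOf_eq_prime h5 hx1]; decide) hx1 hv
  rw [this] at hv0
  simp at hv0

end CfsgLib.SuzukiModule
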